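import Cfsg.Agent.Lib.M3.YW

set_option autoImplicit false
set_option maxRecDepth 1000000
set_option maxHeartbeats 0

namespace Cfsg.Lib.M3

open Calc

def r550 : List W := [.pow (.mul (.l 1) (.l 2)) 3, .pow (.mul (.l 1) (.l 3)) 2, .pow (.mul (.l 1) (.l 4)) 2, .pow (.mul (.l 1) (.l 5)) 2, .pow (.mul (.l 1) (.l 6)) 2, .pow (.mul (.l 1) (.l 7)) 3, .pow (.mul (.l 1) (.l 8)) 2, .pow (.mul (.l 1) (.l 9)) 2, .pow (.mul (.l 1) (.l 10)) 2, .pow (.mul (.l 1) (.l 11)) 2, .pow (.mul (.l 2) (.l 3)) 3, .pow (.mul (.l 2) (.l 4)) 2, .pow (.mul (.l 2) (.l 5)) 2, .pow (.mul (.l 2) (.l 6)) 2, .pow (.mul (.l 2) (.l 7)) 2, .pow (.mul (.l 2) (.l 8)) 2, .pow (.mul (.l 2) (.l 9)) 2, .pow (.mul (.l 2) (.l 10)) 2, .pow (.mul (.l 2) (.l 11)) 2, .pow (.mul (.l 3) (.l 4)) 3, .pow (.mul (.l 3) (.l 5)) 2, .pow (.mul (.l 3) (.l 6)) 2, .pow (.mul (.l 3) (.l 7)) 2, .pow (.mul (.l 3) (.l 8)) 2, .pow (.mul (.l 3) (.l 9)) 2, .pow (.mul (.l 3) (.l 10)) 2, .pow (.mul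 (.l 3) (.l 11)) 2, .pow (.mul (.l 4) (.l 5)) 3, .pow (.mul (.l 4) (.l 6)) 2, .pow (.mul (.l 4) (.l 7)) 2, .pow (.mul (.l 4) (.l 8)) 2, .pow (.mul (.l 4) (.l 9)) 2, .pow (.mul (.l 4) (.l 10)) 2, .pow (.mul (.l 4) (.l 11)) 2, .pow (.mul (.l 5) (.l 6)) 3, .pow (.mul (.l 5) (.l 7)) 2, .pow (.mul (.l 5) (.l 8)) 2, .pow (.mul (.l 5) (.l 9)) 2, .pow (.mul (.l 5) (.l 10)) 2, .pow (.mul (.l 5) (.l 11)) 2, .pow (.mul (.l 6) (.l 7)) 2, .pow (.mul (.l 6) (.l 8)) 2, .pow (.mul (.l 6) (.l 9)) 2, .pow (.mul (.l 6) (.l 10)) 2, .pow (.mul (.l 6) (.l 11)) 2, .pow (.mul (.l 7) (.l 8)) 3, .pow (.mul (.l 7) (.l 9)) 2, .pow (.mul (.l 7) (.l 10)) 2, .pow (.mul (.l 7) (.l 11)) 2, .pow (.mul (.l 8) (.l 9)) 3, .pow (.mul (.l 8) (.l 10)) 2, .pow (.mul (.l 8) (.l 11)) 2, .pow (.mul (.l 9) (.l 10)) 3, .pow (.mul (.l 9) (.l 11)) 2, .pow (.mul (.l 10) (.l 11)) 3]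
def sigW : W := .mul (.mul (.mul (.mul (.mul (.mul (.mul (.mul (.mul (.mul (.mul (.mul (.mul (.mul (.mul (.mul (.mul (.mul (.mul (.l 5) (.l 4)) (.l 3)) (.l 2)) (.l 1)) (.l 7)) (.l 8)) (.l 9)) (.l 10)) (.l 11)) (.l 10)) (.l 9)) (.l 8)) (.l 7)) (.l 1)) (.l 2)) (.l 3)) (.l 4)) (.l 5)) (.mul (.mul (.inv (.mul (.mul (.mul (.mul (.mul (.mul (.mul (.mul (.mul (.mul (.l 6) (.l 5)) (.l 4)) (.l 3)) (.l 2)) (.l 1)) (.l 7)) (.l 8)) (.l 9)) (.l 10)) (.l 11))) (.mul (.mul (.mul (.mul (.mul (.mul (.mul (.mul (.mul (.mul (.mul (.mul (.mul (.mul (.mul (.mul (.mul (.mul (.l 5) (.l 4)) (.l 3)) (.l 2)) (.l 1)) (.l 7)) (.l 8)) (.l 9)) (.l 10)) (.l 11)) (.l 10)) (.l 9)) (.l 8)) (.l 7)) (.l 1)) (.l 2)) (.l 3)) (.l 4)) (.l 5))) (.mul (.mul (.mul (.mul (.mul (.mul (.mul (.mul (.mul (.mul (.l 6) (.l 5)) (.l 4)) (.l 3)) (.l 2)) (.l 1)) (.l 7)) (.l 8)) (.l 9)) (.l 10)) (.l 11)))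
def y5500_rels : List W := [.pow (.mul (.l 1) (.l 2)) 3, .pow (.mul (.l 1) (.l 3)) 2, .pow (.mul (.l 1) (.l 4)) 2, .pow (.mul (.l 1) (.l 5)) 2, .pow (.mul (.l 1) (.l 6)) 2, .pow (.mul (.l 1) (.l 7)) 3, .pow (.mul (.l 1) (.l 8)) 2, .pow (.mul (.l 1) (.l 9)) 2, .pow (.mul (.l 1) (.l 10)) 2, .pow (.mul (.l 1) (.l 11)) 2, .pow (.mul (.l 2) (.l 3)) 3, .pow (.mul (.l 2) (.l 4)) 2, .pow (.mul (.l 2) (.l 5)) 2, .pow (.mul (.l 2) (.l 6)) 2, .pow (.mul (.l 2) (.l 7)) 2, .pow (.mul (.l 2) (.l 8)) 2, .pow (.mul (.l 2) (.l 9)) 2, .pow (.mul (.l 2) (.l 10)) 2, .pow (.mul (.l 2) (.l 11)) 2, .pow (.mul (.l 3) (.l 4)) 3, .pow (.mul (.l 3) (.l 5)) 2, .pow (.mul (.l 3) (.l 6)) 2, .pow (.mul (.l 3) (.l 7)) 2, .pow (.mul (.l 3) (.l 8)) 2, .pow (.mul (.l 3) (.l 9)) 2, .pow (.mul (.l 3) (.l 10)) 2, .pow (.mul (.l 3) (.l 11)) 2, .pow (.mul (.l 4) (.l 5)) 3, .pow (.mul (.l 4) (.l 6)) 2, .pow (.mul (.l 4) (.l 7)) 2, .pow (.mul (.l 4) (.l 8)) 2, .pow (.mul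 (.l 4) (.l 9)) 2, .pow (.mul (.l 4) (.l 10)) 2, .pow (.mul (.l 4) (.l 11)) 2, .pow (.mul (.l 5) (.l 6)) 3, .pow (.mul (.l 5) (.l 7)) 2, .pow (.mul (.l 5) (.l 8)) 2, .pow (.mul (.l 5) (.l 9)) 2, .pow (.mul (.l 5) (.l 10)) 2, .pow (.mul (.l 5) (.l 11)) 2, .pow (.mul (.l 6) (.l 7)) 2, .pow (.mul (.l 6) (.l 8)) 2, .pow (.mul (.l 6) (.l 9)) 2, .pow (.mul (.l 6) (.l 10)) 2, .pow (.mul (.l 6) (.l 11)) 2, .pow (.mul (.l 7) (.l 8)) 3, .pow (.mul (.l 7) (.l 9)) 2, .pow (.mul (.l 7) (.l 10)) 2, .pow (.mul (.l 7) (.l 11)) 2, .pow (.mul (.l 8) (.l 9)) 3, .pow (.mul (.l 8) (.l 10)) 2, .pow (.mul (.l 8) (.l 11)) 2, .pow (.mul (.l 9) (.l 10)) 3, .pow (.mul (.l 9) (.l 11)) 2, .pow (.mul (.l 10) (.l 11)) 3]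
def y5500_F : Tr := .leaf (nat_lit 0x2d96d76bb55aad369b45a2cf67b2592c763b158ac361b2512974ba552a9349a45228f47a1d0e8542a0d06872395cae552a94ca6512893c9e4d269148a43219140a170b8542a1309844220f078341a0b0580c0602e175badd4ea74ba5d0e873b9dcce672b95c8e473b1d96cb6532992c9643218cc662b1588c461b0d90a855aad54aa54aa54ca652a9548a451a8d44a254a25168b452290c8642a15088441a0d048240a05146a359acce6733198ca6532190c66331188c2613592c90482391c8c462291488442190c8442209049229140a04e27130984a25120904623110884221150281209040200e07030180a050201006030100802010359a8b459249207037138982c153a9d1088349a4944a158ac00000)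
def y5500_T : Tr := .leaf (nat_lit 205163983024656)
def y5500_P : Tr := .node (.node (.leaf (nat_lit 0x41641200048082b824000781055048000b820a6090000f04144120000c06020f40a07002340313c0e0046a062581c000b80c4903800150188e0700025031140e0003e062181c000600c4103800080187e0700007020085603028011b010760500032020e40a0005e041b814000ac08350280013010660500020020c40a00032041781400044082d02800040085203000350109c0600066021280c000c0042301800160084203000270107c0600042020e80c00068041b0180009008320300009))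
  (.leaf (nat_lit 0x2cd70b80114859aa17002280b37c2e00038166985c000542cd10b800068599e17000040a0495a130a8000d8519615002270a3242a0044c14638540089428c50a801120518615002230a3342a00028145f8540003028bd0a8000184820990884c0004c24b909801108496e1300220092d4260043e125984c0087824b1098010e8495e130021c092ec2600016125584c00008200e4383c220001410538440086820a5088010c84146110021808284220042e104f84400858209d088010a841361100214)))
  (.node (.leaf (nat_lit 0x82a422000020e061d41a0f00000072541e004240e4983c008441c9107801080391e0f0020f0725c1e0041c0e4683c008341c8b0780106039120f0020b06028c60b0680102831060d00209062041a004100c3f8340081c18850680103030fa0d00204061ec1a004060c3c8340080818770680100828105d0482c008b414710580118028de0b0022f051cc160045c0a3682c000a0146b0580011828d20b0001d0519c160002c0a3282c0003810062681c1200462082f824008cc10610480119020b60900029))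
  (.leaf (nat_lit 0x7fc007fc007fc007fc007fc007fc007fc007fc007fc007fc007fc007fc007fc007fc007fc007fc007fc007fc007fc007fc007fc007fc007fc007fc007fc007fc007fc007fc2c14608542e00044166e85c008b02cdb0b80115859b2170022a)))
def y5500_N_0 : Tr := .node (.node (.node (.node (.leaf (nat_lit 68224065))
  (.leaf (nat_lit 132)))
  (.node (.leaf (nat_lit 332100))
  (.leaf (nat_lit 14350))))
  (.node (.node (.leaf (nat_lit 297250))
  (.leaf (nat_lit 297)))
  (.leaf (nat_lit 367975))))
  (.node (.node (.node (.leaf (nat_lit 329025))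
  (.leaf (nat_lit 6150)))
  (.node (.leaf (nat_lit 235750))
  (.leaf (nat_lit 0))))
  (.node (.node (.leaf (nat_lit 298275))
  (.leaf (nat_lit 396)))
  (.leaf (nat_lit 33))))
def y5500_N_1 : Tr := .node (.node (.node (.node (.leaf (nat_lit 197825))
  (.leaf (nat_lit 165)))
  (.node (.leaf (nat_lit 267525))
  (.leaf (nat_lit 528))))
  (.node (.node (.leaf (nat_lit 167075))
  (.leaf (nat_lit 10250)))
  (.leaf (nat_lit 345318729))))
  (.node (.node (.node (.leaf (nat_lit 166050))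
  (.leaf (nat_lit 264)))
  (.leaf (nat_lit 366950)))
  (.node (.node (.leaf (nat_lit 200900))
  (.leaf (nat_lit 429)))
  (.leaf (nat_lit 2050))))
def y5500_N_2 : Tr := .node (.node (.node (.node (.leaf (nat_lit 132225))
  (.leaf (nat_lit 4100)))
  (.node (.leaf (nat_lit 206771397))
  (.leaf (nat_lit 495))))
  (.node (.node (.leaf (nat_lit 362850))
  (.leaf (nat_lit 330)))
  (.leaf (nat_lit 336200))))
  (.node (.node (.node (.leaf (nat_lit 102860898))
  (.leaf (nat_lit 231)))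
  (.leaf (nat_lit 301350)))
  (.node (.node (.leaf (nat_lit 363875))
  (.leaf (nat_lit 12300)))
  (.leaf (nat_lit 66))))
def y5500_N_3 : Tr := .node (.node (.node (.node (.leaf (nat_lit 263425))
  (.leaf (nat_lit 198)))
  (.node (.leaf (nat_lit 333125))
  (.leaf (nat_lit 16400))))
  (.node (.node (.leaf (nat_lit 232675))
  (.leaf (nat_lit 363)))
  (.leaf (nat_lit 379955562))))
  (.node (.node (.node (.leaf (nat_lit 231650))
  (.leaf (nat_lit 8200)))
  (.leaf (nat_lit 302375)))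
  (.node (.node (.leaf (nat_lit 266500))
  (.leaf (nat_lit 462)))
  (.leaf (nat_lit 99))))
def y5500_N_4 : Tr := .node (.node (.node (.node (.leaf (nat_lit 99425))
  (.leaf (nat_lit 132)))
  (.node (.leaf (nat_lit 364900))
  (.leaf (nat_lit 495))))
  (.node (.node (.leaf (nat_lit 330050))
  (.leaf (nat_lit 9225)))
  (.leaf (nat_lit 310681896))))
  (.node (.node (.node (.leaf (nat_lit 361825))
  (.leaf (nat_lit 231)))
  (.leaf (nat_lit 268550)))
  (.node (.node (.leaf (nat_lit 331075))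
  (.leaf (nat_lit 396)))
  (.leaf (nat_lit 1025))))
def y5500_N_5 : Tr := .node (.node (.node (.node (.leaf (nat_lit 236160225))
  (.leaf (nat_lit 5125)))
  (.node (.leaf (nat_lit 300325))
  (.leaf (nat_lit 528))))
  (.node (.node (.leaf (nat_lit 199875))
  (.leaf (nat_lit 363)))
  (.leaf (nat_lit 370025))))
  (.node (.node (.node (.leaf (nat_lit 198850))
  (.leaf (nat_lit 264)))
  (.leaf (nat_lit 276045063)))
  (.node (.node (.leaf (nat_lit 233700))
  (.leaf (nat_lit 13325)))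
  (.leaf (nat_lit 99))))
def y5500_N_6 : Tr := .node (.node (.node (.node (.leaf (nat_lit 165025))
  (.leaf (nat_lit 165)))
  (.node (.leaf (nat_lit 234725))
  (.leaf (nat_lit 15375))))
  (.node (.node (.leaf (nat_lit 137497731))
  (.leaf (nat_lit 330)))
  (.leaf (nat_lit 369000))))
  (.node (.node (.node (.leaf (nat_lit 133250))
  (.leaf (nat_lit 7175)))
  (.leaf (nat_lit 334150)))
  (.node (.node (.leaf (nat_lit 172134564))
  (.leaf (nat_lit 429)))
  (.leaf (nat_lit 66))))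
def y5500_N_7 : Tr := .node (.node (.node (.node (.leaf (nat_lit 296225))
  (.leaf (nat_lit 198)))
  (.node (.leaf (nat_lit 365925))
  (.leaf (nat_lit 0))))
  (.node (.node (.leaf (nat_lit 265475))
  (.leaf (nat_lit 11275)))
  (.leaf (nat_lit 33))))
  (.node (.node (.node (.leaf (nat_lit 264450))
  (.leaf (nat_lit 297)))
  (.leaf (nat_lit 335175)))
  (.node (.node (.leaf (nat_lit 299300))
  (.leaf (nat_lit 462)))
  (.leaf (nat_lit 3075))))
def y5500_N : Tr := .node (.node (.node y5500_N_0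
  y5500_N_1)
  (.node y5500_N_2
  y5500_N_3))
  (.node (.node y5500_N_4
  y5500_N_5)
  (.node y5500_N_6
  y5500_N_7))
noncomputable def y5500 : TC :=
  ⟨[.l 0, .l 1, .l 2, .l 3, .l 4, .l 5, .l 6, .l 7, .l 8, .l 9, .l 10, .l 11, .l 12, .l 13, .l 14, .l 15, .l 16],
    (nat_lit 4), (nat_lit 9), (nat_lit 0x107b9ac5a928398a418820), (nat_lit 2047), (nat_lit 12), (nat_lit 10), (nat_lit 32), (nat_lit 4), (nat_lit 105),
    get (nat_lit 10) (nat_lit 0x400c0400c02010030080400c02010030080400c02010030080400c02010030080400c02010030080400c02010030080400c02010030080400c020100300806010060100401804010040180401004010040100401004010060100401004010040180401004010040100401804010040100401004010060100401004018040100401006), Tr.get y5500_N, get (nat_lit 20) (nat_lit 0x3ff003ff003ff003ff003ff003ff003ff003ff003ff003ff003ff003ff003ff003ff003ff003ff003ff003ff003ff003ff003ff003ff003ff003ff003ff003ff003ff003ff003ff003ff003ff003ff003ff003ff003ff003ff003ff003ff003ff003ff003ff003ff003ff003ff003ff003ff003ff003ff003ff003ff000360003500034000330003200031000300002f0002e0002d0002c0002b0002a000290002800027000260002500024000230002200021000200001f0001e0001d0001c0001b0001a000190001800017000160001500014000130001200011000100000f0000e0000d0000c0000b0000a00009000080000700006000050000400003000020000100000),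
    Tr.get3 y5500_F (nat_lit 18) (nat_lit 5), Tr.get3 y5500_T (nat_lit 4) (nat_lit 7), Tr.get y5500_P⟩

theorem y5500_head : y5500.headOK y5500_rels iv = true := by decide +kernel

theorem y5500_b0 : allFrom (nat_lit 0) (nat_lit 4) y5500.blockOK = true := by decide +kernel

def y5500_Q11 : Tr := .leaf (nat_lit 0xf0dccab8a69482705e4e0302)
theorem y5500_f11_0 : allFrom (nat_lit 0) (nat_lit 12) (y5500.finOK (nat_lit 12) (Tr.get3 y5500_Q11 (nat_lit 8) (nat_lit 6)) (nat_lit 11)) = true := by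
  decide +kernel

def y5500_Q10 : Tr := .leaf (nat_lit 0xeedac8b6a492806e6005042a)
theorem y5500_f10_0 : allFrom (nat_lit 0) (nat_lit 12) (y5500.finOK (nat_lit 12) (Tr.get3 y5500_Q10 (nat_lit 8) (nat_lit 6)) (nat_lit 10)) = true := by
  decide +kernel

def y5500_Q9 : Tr := .leaf (nat_lit 0xecd8c6b4a2907e7207063c28)
theorem y5500_f9_0 : allFrom (nat_lit 0) (nat_lit 12) (y5500.finOK (nat_lit 12) (Tr.get3 y5500_Q9 (nat_lit 8) (nat_lit 6)) (nat_lit 9)) = true := by
  decide +kernel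

def y5500_Q8 : Tr := .leaf (nat_lit 0xead6c4b2a08e8409084c3a26)
theorem y5500_f8_0 : allFrom (nat_lit 0) (nat_lit 12) (y5500.finOK (nat_lit 12) (Tr.get3 y5500_Q8 (nat_lit 8) (nat_lit 6)) (nat_lit 8)) = true := by
  decide +kernel

def y5500_Q7 : Tr := .leaf (nat_lit 0xe8d4c2b09e960b0a5c4a3824)
theorem y5500_f7_0 : allFrom (nat_lit 0) (nat_lit 12) (y5500.finOK (nat_lit 12) (Tr.get3 y5500_Q7 (nat_lit 8) (nat_lit 6)) (nat_lit 7)) = true := by
  decide +kernel

def y5500_Q6 : Tr := .leaf (nat_lit 0x1716c0ae9c8c7c6c5a483622)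
theorem y5500_f6_0 : allFrom (nat_lit 0) (nat_lit 12) (y5500.finOK (nat_lit 12) (Tr.get3 y5500_Q6 (nat_lit 8) (nat_lit 6)) (nat_lit 6)) = true := by
  decide +kernel

def y5500_Q5 : Tr := .leaf (nat_lit 0xf21514ac9a8a7a6a58463420)
theorem y5500_f5_0 : allFrom (nat_lit 0) (nat_lit 12) (y5500.finOK (nat_lit 12) (Tr.get3 y5500_Q5 (nat_lit 8) (nat_lit 6)) (nat_lit 5)) = true := by
  decide +kernel

def y5500_Q4 : Tr := .leaf (nat_lit 0xe6de1312988878685644321e)
theorem y5500_f4_0 : allFrom (nat_lit 0) (nat_lit 12) (y5500.finOK (nat_lit 12) (Tr.get3 y5500_Q4 (nat_lit 8) (nat_lit 6)) (nat_lit 4)) = true := by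
  decide +kernel

def y5500_Q3 : Tr := .leaf (nat_lit 0xe4d2cc11108676665442301c)
theorem y5500_f3_0 : allFrom (nat_lit 0) (nat_lit 12) (y5500.finOK (nat_lit 12) (Tr.get3 y5500_Q3 (nat_lit 8) (nat_lit 6)) (nat_lit 3)) = true := by
  decide +kernel

def y5500_Q2 : Tr := .leaf (nat_lit 0xe2d0beba0f0e746452402e1a)
theorem y5500_f2_0 : allFrom (nat_lit 0) (nat_lit 12) (y5500.finOK (nat_lit 12) (Tr.get3 y5500_Q2 (nat_lit 8) (nat_lit 6)) (nat_lit 2)) = true := by
  decide +kernel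

def y5500_Q1 : Tr := .leaf (nat_lit 0xe0cebcaaa80d0c62503e2c18)
theorem y5500_f1_0 : allFrom (nat_lit 0) (nat_lit 12) (y5500.finOK (nat_lit 12) (Tr.get3 y5500_Q1 (nat_lit 8) (nat_lit 6)) (nat_lit 1)) = true := by
  decide +kernel

theorem y5500_blocks : ∀ t < y5500.k, y5500.blockOK t = true :=
  (of_allFrom_append of_lt_zero y5500_b0)

/-- index 12 max 12 total 12 facts 122 | needed cosets 12 facts 122 steps 320 trivial 0 -/
theorem y5500_index {G : Type*} [Group G] {γ : ℕ → G} (hL : Lab γ iv) (hr : ∀ t ∈ y5500_rels, t.ev γ = 1) {K : Subgroup G}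
    (hK : ∀ t ∈ ([.l 1, .l 2, .l 3, .l 4, .l 5, .l 6, .l 7, .l 8, .l 9, .l 10] : List W), t.ev γ ∈ K) :
    K.relIndex (genW γ [.l 1, .l 2, .l 3, .l 4, .l 5, .l 6, .l 7, .l 8, .l 9, .l 10, .l 11]) ≠ 0 ∧ K.relIndex (genW γ [.l 1, .l 2, .l 3, .l 4, .l 5, .l 6, .l 7, .l 8, .l 9, .l 10, .l 11]) ≤ 12 :=
  TC.relIndex_le (D := y5500) (gens := [1, 2, 3, 4, 5, 6, 7, 8, 9, 10, 11]) hL (List.forall_mem_cons.2 ⟨hL.zero_mem K, hK⟩) hr y5500_head y5500_blocks (by decide) (by decide)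
   (List.forall_mem_cons.2 ⟨⟨_, (of_allFrom_append of_lt_zero y5500_f1_0)⟩,
    List.forall_mem_cons.2 ⟨⟨_, (of_allFrom_append of_lt_zero y5500_f2_0)⟩,
    List.forall_mem_cons.2 ⟨⟨_, (of_allFrom_append of_lt_zero y5500_f3_0)⟩,
    List.forall_mem_cons.2 ⟨⟨_, (of_allFrom_append of_lt_zero y5500_f4_0)⟩,
    List.forall_mem_cons.2 ⟨⟨_, (of_allFrom_append of_lt_zero y5500_f5_0)⟩,
    List.forall_mem_cons.2 ⟨⟨_, (of_allFrom_append of_lt_zero y5500_f6_0)⟩,
    List.forall_mem_cons.2 ⟨⟨_, (of_allFrom_append of_lt_zero y5500_f7_0)⟩,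
    List.forall_mem_cons.2 ⟨⟨_, (of_allFrom_append of_lt_zero y5500_f8_0)⟩,
    List.forall_mem_cons.2 ⟨⟨_, (of_allFrom_append of_lt_zero y5500_f9_0)⟩,
    List.forall_mem_cons.2 ⟨⟨_, (of_allFrom_append of_lt_zero y5500_f10_0)⟩,
    List.forall_mem_cons.2 ⟨⟨_, (of_allFrom_append of_lt_zero y5500_f11_0)⟩,
    fun _ h => absurd h List.not_mem_nil⟩⟩⟩⟩⟩⟩⟩⟩⟩⟩⟩)

def y5501_rels : List W := [.pow (.mul (.l 1) (.l 2)) 3, .pow (.mul (.l 1) (.l 3)) 2, .pow (.mul (.l 1) (.l 4)) 2, .pow (.mul (.l 1) (.l 5)) 2, .pow (.mul (.l 1) (.l 6)) 2, .pow (.mul (.l 1) (.l 7)) 3, .pow (.mul (.l 1) (.l 8)) 2, .pow (.mul (.l 1) (.l 9)) 2, .pow (.mul (.l 1) (.l 10)) 2, .pow (.mul (.l 2) (.l 3)) 3, .pow (.mul (.l 2) (.l 4)) 2, .pow (.mul (.l 2) (.l 5)) 2, .pow (.mul (.l 2) (.l 6)) 2, .pow (.mul (.l 2) (.l 7)) 2, .pow (.mul (.l 2) (.l 8)) 2, .pow (.mul (.l 2) (.l 9)) 2, .pow (.mul (.l 2) (.l 10)) 2, .pow (.mul (.l 3) (.l 4)) 3, .pow (.mul (.l 3) (.l 5)) 2, .pow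 (.mul (.l 3) (.l 6)) 2, .pow (.mul (.l 3) (.l 7)) 2, .pow (.mul (.l 3) (.l 8)) 2, .pow (.mul (.l 3) (.l 9)) 2, .pow (.mul (.l 3) (.l 10)) 2, .pow (.mul (.l 4) (.l 5)) 3, .pow (.mul (.l 4) (.l 6)) 2, .pow (.mul (.l 4) (.l 7)) 2, .pow (.mul (.l 4) (.l 8)) 2, .pow (.mul (.l 4) (.l 9)) 2, .pow (.mul (.l 4) (.l 10)) 2, .pow (.mul (.l 5) (.l 6)) 3, .pow (.mul (.l 5) (.l 7)) 2, .pow (.mul (.l 5) (.l 8)) 2, .pow (.mul (.l 5) (.l 9)) 2, .pow (.mul (.l 5) (.l 10)) 2, .pow (.mul (.l 6) (.l 7)) 2, .pow (.mul (.l 6) (.l 8)) 2, .pow (.mul (.l 6) (.l 9)) 2, .pow (.mul (.l 6) (.l 10)) 2, .pow (.mul (.l 7) (.l 8)) 3, .pow (.mul (.l 7) (.l 9)) 2, .pow (.mul (.l 7) (.l 10)) 2, .pow (.mul (.l 8) (.l 9)) 3, .pow (.mul (.l 8) (.l 10)) 2, .pow (.mul (.l 9) (.l 10)) 3]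
def y5501_F : Tr := .leaf (nat_lit 0x1349a45228f47a351a8b45a25128743a150a8341a44a24f279349a4b259249247239148a432193c1e150a8341a0b058241207038140a030180b85d4ea74ba5cce672b95c8e471b8dc4e27130994ca64b2590c8633198ac56231186c361a8d54aa54aa550a853a9d4ca652a9548a452211148a44a25108843a1d0c8642a15028142994d46a349a4d0683399ccc6631188c26133118944a2492490482391c8643211088241250a85229140a04e27120904623110884221150281209040200e070281408040180c040200804154a94ca6110873b9d82c1512890683321908a451309800000)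
def y5501_T : Tr := .leaf (nat_lit 11649936536080)
def y5501_P : Tr := .node (.node (.leaf (nat_lit 0x8063d070900211085509002170853090021608510900215084f0900214084d0900213085709002120849090000106042f0507002180645070021d0643070021c0641070021b063f070021a06470700219063b070000a0639070000204021f03050021e0437050022204350500221043305002200431050021f042d0500012042b050000b0429050000302270300226022503002250223030022402210300223021d0300019021b03000130219030000c02170300004))
  (.leaf (nat_lit 0x1ff001ff001ff001ff001ff001ff001ff001ff001ff001ff001ff001ff001ff001ff001ff1412a513150002c14b7150002b14b5150002914b3150002614b1150002214af150001d14ad150001714ab150001014a9150000812109311130002a12a7130002812a3130002512a11300021129f130001c129d1300016129b130000f12991300007)))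
  (.leaf (nat_lit 0x100e810f11000271095110022b10911100024108f1100020108d110001b108b11000151089110000e109711000060e0c6f0d0f000050e850f002290e830f002280e7f0f000230e7d0f0001f0e7b0f0001a0e790f000140e870f0000d0c0a590b0d002000c750d002080c730d002070c710d002060c6d0d002040c6b0d002030c690d002020c770d002010a084b090b002090a650b002100a630b0020f0a610b0020e0a5f0b0020d0a5d0b0020c0a5b0b0020b0a670b0020a))
def y5501_N_0 : Tr := .node (.node (.node (.node (.leaf (nat_lit 68224065))
  (.leaf (nat_lit 231)))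
  (.leaf (nat_lit 267525)))
  (.node (.node (.leaf (nat_lit 330050))
  (.leaf (nat_lit 12300)))
  (.leaf (nat_lit 66))))
  (.node (.node (.node (.leaf (nat_lit 329025))
  (.leaf (nat_lit 330)))
  (.leaf (nat_lit 302375)))
  (.node (.node (.leaf (nat_lit 172134564))
  (.leaf (nat_lit 495)))
  (.leaf (nat_lit 4100))))
def y5501_N_1 : Tr := .node (.node (.node (.node (.leaf (nat_lit 197825))
  (.leaf (nat_lit 8200)))
  (.leaf (nat_lit 268550)))
  (.node (.node (.leaf (nat_lit 232675))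
  (.leaf (nat_lit 462)))
  (.leaf (nat_lit 99))))
  (.node (.node (.node (.leaf (nat_lit 198850))
  (.leaf (nat_lit 363)))
  (.leaf (nat_lit 345318729)))
  (.node (.node (.leaf (nat_lit 299300))
  (.leaf (nat_lit 16400)))
  (.leaf (nat_lit 198))))
def y5501_N_2 : Tr := .node (.node (.node (.node (.leaf (nat_lit 132225))
  (.leaf (nat_lit 264)))
  (.leaf (nat_lit 333125)))
  (.node (.node (.leaf (nat_lit 167075))
  (.leaf (nat_lit 429)))
  (.leaf (nat_lit 2050))))
  (.node (.node (.node (.leaf (nat_lit 133250))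
  (.leaf (nat_lit 10250)))
  (.leaf (nat_lit 310681896)))
  (.node (.node (.leaf (nat_lit 233700))
  (.leaf (nat_lit 528)))
  (.leaf (nat_lit 165))))
def y5501_N_3 : Tr := .node (.node (.node (.node (.leaf (nat_lit 263425))
  (.leaf (nat_lit 297)))
  (.leaf (nat_lit 334150)))
  (.node (.node (.leaf (nat_lit 298275))
  (.leaf (nat_lit 14350)))
  (.leaf (nat_lit 132))))
  (.node (.node (.node (.leaf (nat_lit 264450))
  (.leaf (nat_lit 396)))
  (.leaf (nat_lit 33)))
  (.node (.node (.leaf (nat_lit 206771397))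
  (.leaf (nat_lit 0)))
  (.leaf (nat_lit 6150))))
def y5501_N_4 : Tr := .node (.node (.node (.node (.leaf (nat_lit 99425))
  (.leaf (nat_lit 7175)))
  (.leaf (nat_lit 300325)))
  (.node (.node (.leaf (nat_lit 137497731))
  (.leaf (nat_lit 429)))
  (.leaf (nat_lit 66))))
  (.node (.node (.node (.leaf (nat_lit 102860898))
  (.leaf (nat_lit 330)))
  (.leaf (nat_lit 335175)))
  (.node (.node (.leaf (nat_lit 200900))
  (.leaf (nat_lit 15375)))
  (.leaf (nat_lit 165))))
def y5501_N_5 : Tr := .node (.node (.node (.node (.leaf (nat_lit 236160225))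
  (.leaf (nat_lit 297)))
  (.leaf (nat_lit 301350)))
  (.node (.node (.leaf (nat_lit 265475))
  (.leaf (nat_lit 462)))
  (.leaf (nat_lit 3075))))
  (.node (.node (.node (.leaf (nat_lit 231650))
  (.leaf (nat_lit 11275)))
  (.leaf (nat_lit 33)))
  (.node (.node (.leaf (nat_lit 332100))
  (.leaf (nat_lit 0)))
  (.leaf (nat_lit 198))))
def y5501_N_6 : Tr := .node (.node (.node (.node (.leaf (nat_lit 165025))
  (.leaf (nat_lit 264)))
  (.leaf (nat_lit 235750)))
  (.node (.node (.leaf (nat_lit 199875))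
  (.leaf (nat_lit 13325)))
  (.leaf (nat_lit 99))))
  (.node (.node (.node (.leaf (nat_lit 166050))
  (.leaf (nat_lit 363)))
  (.leaf (nat_lit 336200)))
  (.node (.node (.leaf (nat_lit 266500))
  (.leaf (nat_lit 528)))
  (.leaf (nat_lit 5125))))
def y5501_N_7 : Tr := .node (.node (.node (.node (.leaf (nat_lit 296225))
  (.leaf (nat_lit 9225)))
  (.leaf (nat_lit 276045063)))
  (.node (.node (.leaf (nat_lit 331075))
  (.leaf (nat_lit 495)))
  (.leaf (nat_lit 132))))
  (.node (.node (.node (.leaf (nat_lit 297250))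
  (.leaf (nat_lit 396)))
  (.leaf (nat_lit 1025)))
  (.node (.leaf (nat_lit 234725))
  (.leaf (nat_lit 231))))
def y5501_N : Tr := .node (.node (.node y5501_N_0
  y5501_N_1)
  (.node y5501_N_2
  y5501_N_3))
  (.node (.node y5501_N_4
  y5501_N_5)
  (.node y5501_N_6
  y5501_N_7))
noncomputable def y5501 : TC :=
  ⟨[.l 0, .l 1, .l 2, .l 3, .l 4, .l 5, .l 6, .l 7, .l 8, .l 9, .l 10, .l 11, .l 12, .l 13, .l 14, .l 15, .l 16],
    (nat_lit 4), (nat_lit 8), (nat_lit 0x107b9ac5a928398a418820), (nat_lit 1983), (nat_lit 11), (nat_lit 9), (nat_lit 32), (nat_lit 3), (nat_lit 95),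
    get (nat_lit 10) (nat_lit 0x400c0400c02010030080400c02010030080400c02010030080400c02010030080400c02010030080400c02010030080400c02010030080400c02010030080601006010040180401004010040100401006010040100401006010040100401004018040100401004010040180401004018040100401006), Tr.get y5501_N, get (nat_lit 20) (nat_lit 0x3ff003ff003ff003ff003ff003ff003ff003ff003ff003ff003ff003ff003ff003ff003ff003ff003ff003ff003ff003ff003ff003ff003ff003ff003ff003ff003ff003ff003ff003ff003ff003ff003ff003ff003ff003ff003ff003ff003ff003ff003ff003ff003ff003ff003ff003ff003ff003ff003ff003ff0002c0002b0002a000290002800027000260002500024000230002200021000200001f0001e0001d0001c0001b0001a000190001800017000160001500014000130001200011000100000f0000e0000d0000c0000b0000a00009000080000700006000050000400003000020000100000),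
    Tr.get3 y5501_F (nat_lit 18) (nat_lit 5), Tr.get3 y5501_T (nat_lit 4) (nat_lit 7), Tr.get y5501_P⟩

theorem y5501_head : y5501.headOK y5501_rels iv = true := by decide +kernel

theorem y5501_b0 : allFrom (nat_lit 0) (nat_lit 3) y5501.blockOK = true := by decide +kernel

def y5501_Q10 : Tr := .leaf (nat_lit 0x1514a49484746454443626)
theorem y5501_f10_0 : allFrom (nat_lit 0) (nat_lit 11) (y5501.finOK (nat_lit 11) (Tr.get3 y5501_Q10 (nat_lit 8) (nat_lit 6)) (nat_lit 10)) = true := by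
  decide +kernel

def y5501_Q9 : Tr := .leaf (nat_lit 0xc813129282726252423424)
theorem y5501_f9_0 : allFrom (nat_lit 0) (nat_lit 11) (y5501.finOK (nat_lit 11) (Tr.get3 y5501_Q9 (nat_lit 8) (nat_lit 6)) (nat_lit 9)) = true := by
  decide +kernel

def y5501_Q8 : Tr := .leaf (nat_lit 0xc6b6111080706050403222)
theorem y5501_f8_0 : allFrom (nat_lit 0) (nat_lit 11) (y5501.finOK (nat_lit 11) (Tr.get3 y5501_Q8 (nat_lit 8) (nat_lit 6)) (nat_lit 8)) = true := by
  decide +kernel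

def y5501_Q7 : Tr := .leaf (nat_lit 0xc4b4a60f0e6e5e4e3e3020)
theorem y5501_f7_0 : allFrom (nat_lit 0) (nat_lit 11) (y5501.finOK (nat_lit 11) (Tr.get3 y5501_Q7 (nat_lit 8) (nat_lit 6)) (nat_lit 7)) = true := by
  decide +kernel

def y5501_Q6 : Tr := .leaf (nat_lit 0xc2b2a2907e6c5c4c460302)
theorem y5501_f6_0 : allFrom (nat_lit 0) (nat_lit 11) (y5501.finOK (nat_lit 11) (Tr.get3 y5501_Q6 (nat_lit 8) (nat_lit 6)) (nat_lit 6)) = true := by
  decide +kernel

def y5501_Q5 : Tr := .leaf (nat_lit 0xc0b0a08e7c6a5a5605041e)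
theorem y5501_f5_0 : allFrom (nat_lit 0) (nat_lit 11) (y5501.finOK (nat_lit 11) (Tr.get3 y5501_Q5 (nat_lit 8) (nat_lit 6)) (nat_lit 5)) = true := by
  decide +kernel

def y5501_Q4 : Tr := .leaf (nat_lit 0xbeae9e8c7a686607062e1c)
theorem y5501_f4_0 : allFrom (nat_lit 0) (nat_lit 11) (y5501.finOK (nat_lit 11) (Tr.get3 y5501_Q4 (nat_lit 8) (nat_lit 6)) (nat_lit 4)) = true := by
  decide +kernel

def y5501_Q3 : Tr := .leaf (nat_lit 0xbcac9c8a787609083c2c1a)
theorem y5501_f3_0 : allFrom (nat_lit 0) (nat_lit 11) (y5501.finOK (nat_lit 11) (Tr.get3 y5501_Q3 (nat_lit 8) (nat_lit 6)) (nat_lit 3)) = true := by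
  decide +kernel

def y5501_Q2 : Tr := .leaf (nat_lit 0xbaaa9a88860b0a4a3a2a18)
theorem y5501_f2_0 : allFrom (nat_lit 0) (nat_lit 11) (y5501.finOK (nat_lit 11) (Tr.get3 y5501_Q2 (nat_lit 8) (nat_lit 6)) (nat_lit 2)) = true := by
  decide +kernel

def y5501_Q1 : Tr := .leaf (nat_lit 0xb8a898960d0c5848382816)
theorem y5501_f1_0 : allFrom (nat_lit 0) (nat_lit 11) (y5501.finOK (nat_lit 11) (Tr.get3 y5501_Q1 (nat_lit 8) (nat_lit 6)) (nat_lit 1)) = true := by
  decide +kernel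

theorem y5501_blocks : ∀ t < y5501.k, y5501.blockOK t = true :=
  (of_allFrom_append of_lt_zero y5501_b0)

/-- index 11 max 11 total 11 facts 101 | needed cosets 11 facts 101 steps 261 trivial 0 -/
theorem y5501_index {G : Type*} [Group G] {γ : ℕ → G} (hL : Lab γ iv) (hr : ∀ t ∈ y5501_rels, t.ev γ = 1) {K : Subgroup G}
    (hK : ∀ t ∈ ([.l 1, .l 2, .l 3, .l 4, .l 5, .l 7, .l 8, .l 9, .l 10] : List W), t.ev γ ∈ K) :
    K.relIndex (genW γ [.l 1, .l 2, .l 3, .l 4, .l 5, .l 6, .l 7, .l 8, .l 9, .l 10]) ≠ 0 ∧ K.relIndex (genW γ [.l 1, .l 2, .l 3, .l 4, .l 5, .l 6, .l 7, .l 8, .l 9, .l 10]) ≤ 11 :=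
  TC.relIndex_le (D := y5501) (gens := [1, 2, 3, 4, 5, 6, 7, 8, 9, 10]) hL (List.forall_mem_cons.2 ⟨hL.zero_mem K, hK⟩) hr y5501_head y5501_blocks (by decide) (by decide)
   (List.forall_mem_cons.2 ⟨⟨_, (of_allFrom_append of_lt_zero y5501_f1_0)⟩,
    List.forall_mem_cons.2 ⟨⟨_, (of_allFrom_append of_lt_zero y5501_f2_0)⟩,
    List.forall_mem_cons.2 ⟨⟨_, (of_allFrom_append of_lt_zero y5501_f3_0)⟩,
    List.forall_mem_cons.2 ⟨⟨_, (of_allFrom_append of_lt_zero y5501_f4_0)⟩,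
    List.forall_mem_cons.2 ⟨⟨_, (of_allFrom_append of_lt_zero y5501_f5_0)⟩,
    List.forall_mem_cons.2 ⟨⟨_, (of_allFrom_append of_lt_zero y5501_f6_0)⟩,
    List.forall_mem_cons.2 ⟨⟨_, (of_allFrom_append of_lt_zero y5501_f7_0)⟩,
    List.forall_mem_cons.2 ⟨⟨_, (of_allFrom_append of_lt_zero y5501_f8_0)⟩,
    List.forall_mem_cons.2 ⟨⟨_, (of_allFrom_append of_lt_zero y5501_f9_0)⟩,
    List.forall_mem_cons.2 ⟨⟨_, (of_allFrom_append of_lt_zero y5501_f10_0)⟩,
    fun _ h => absurd h List.not_mem_nil⟩⟩⟩⟩⟩⟩⟩⟩⟩⟩)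

def y5502_rels : List W := [.pow (.mul (.l 1) (.l 2)) 3, .pow (.mul (.l 1) (.l 3)) 2, .pow (.mul (.l 1) (.l 4)) 2, .pow (.mul (.l 1) (.l 5)) 2, .pow (.mul (.l 1) (.l 7)) 3, .pow (.mul (.l 1) (.l 8)) 2, .pow (.mul (.l 1) (.l 9)) 2, .pow (.mul (.l 1) (.l 10)) 2, .pow (.mul (.l 2) (.l 3)) 3, .pow (.mul (.l 2) (.l 4)) 2, .pow (.mul (.l 2) (.l 5)) 2, .pow (.mul (.l 2) (.l 7)) 2, .pow (.mul (.l 2) (.l 8)) 2, .pow (.mul (.l 2) (.l 9)) 2, .pow (.mul (.l 2) (.l 10)) 2, .pow (.mul (.l 3) (.l 4)) 3, .pow (.mul (.l 3) (.l 5)) 2, .pow (.mul (.l 3) (.l 7)) 2, .pow (.mul (.l 3) (.l 8)) 2, .pow (.mul (.l 3) (.l 9)) 2, .pow (.mul (.l 3) (.l 10)) 2, .pow (.mul (.l 4) (.l 5)) 3, .pow (.mul (.l 4) (.l 7)) 2, .pow (.mul (.l 4) (.l 8)) 2, .pow (.mul (.l 4) (.l 9)) 2, .pow (.mul (.l 4) (.l 10)) 2, .pow (.mul (.l 5) (.l 7)) 2, .pow (.mul (.l 5) (.l 8)) 2, .pow (.mul (.l 5) (.l 9)) 2, .pow (.mul (.l 5) (.l 10)) 2, .pow (.mul (.l 7) (.l 8)) 3, .pow (.mul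 (.l 7) (.l 9)) 2, .pow (.mul (.l 7) (.l 10)) 2, .pow (.mul (.l 8) (.l 9)) 3, .pow (.mul (.l 8) (.l 10)) 2, .pow (.mul (.l 9) (.l 10)) 3]
def y5502_F : Tr := .leaf (nat_lit 0x2492552a94ca6512893c9e47239148a432191c0e150a84c26110883c1e050280c0604e2753a9d2e9743a1cee772b95c2e170b0594ca64b2590c863b1d8ac5623118ea7552a952a9542a14aa55229146a354221148a44a250a85422110683412091269351a8ca6532190c66331188c261351288e472291488442190c84422090490281389c4a251209046231108842211482410080381c0a0502010060301008020102c96090471b8d84c250a850e87341a09249150a800000)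
def y5502_T : Tr := .leaf (nat_lit 654820258320)
def y5502_P : Tr := .node (.leaf (nat_lit 0xa5b0b002050a550b002030a530b002020a510b0020108063d07090021e084b0900220084d090021f0849090001a08470900016084509000110843090000b060431050700221063f0700222063b070001b06390700017063707000120635070000c06330700005040223030500223042f050001f042d050001c042b0500018042905000130427050000d0425050000602210300022021f0300020021d030001d021b0300019021903000140217030000e02150300007))
  (.leaf (nat_lit 0x12107b1113000151291130021d128f130021c128d130021b128b130021a129313000101289130000a12871300003100e6b0f110000f1083110021910811100218107f1100217107d110021610851100009107911000020e0c5d0d0f000080e750f002140e730f002130e710f002120e6f0f002110e6d0f002100e770f000010c0a4f0b0d000000c670d0020e0c650d0020d0c630d0020c0c690d0020b0c610d0020a0c5f0d002090a0841090b002040a590b002070a570b00206))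
def y5502_N_0 : Tr := .node (.node (.node (.node (.leaf (nat_lit 68224065))
  (.leaf (nat_lit 330)))
  (.leaf (nat_lit 335175)))
  (.node (.node (.leaf (nat_lit 167075))
  (.leaf (nat_lit 15375)))
  (.leaf (nat_lit 165))))
  (.node (.node (.node (.leaf (nat_lit 102860898))
  (.leaf (nat_lit 429)))
  (.leaf (nat_lit 66)))
  (.node (.leaf (nat_lit 299300))
  (.leaf (nat_lit 7175))))
def y5502_N_1 : Tr := .node (.node (.node (.node (.leaf (nat_lit 236160225))
  (.leaf (nat_lit 11275)))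
  (.leaf (nat_lit 33)))
  (.node (.node (.leaf (nat_lit 331075))
  (.leaf (nat_lit 0)))
  (.leaf (nat_lit 198))))
  (.node (.node (.node (.leaf (nat_lit 264450))
  (.leaf (nat_lit 462)))
  (.leaf (nat_lit 3075)))
  (.node (.leaf (nat_lit 300325))
  (.leaf (nat_lit 297))))
def y5502_N_2 : Tr := .node (.node (.node (.node (.leaf (nat_lit 132225))
  (.leaf (nat_lit 363)))
  (.leaf (nat_lit 336200)))
  (.node (.node (.leaf (nat_lit 265475))
  (.leaf (nat_lit 528)))
  (.leaf (nat_lit 5125))))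
  (.node (.node (.node (.leaf (nat_lit 166050))
  (.leaf (nat_lit 13325)))
  (.leaf (nat_lit 99)))
  (.node (.leaf (nat_lit 234725))
  (.leaf (nat_lit 264))))
def y5502_N_3 : Tr := .node (.node (.node (.node (.leaf (nat_lit 296225))
  (.leaf (nat_lit 396)))
  (.leaf (nat_lit 1025)))
  (.node (.leaf (nat_lit 233700))
  (.leaf (nat_lit 231))))
  (.node (.node (.node (.leaf (nat_lit 330050))
  (.leaf (nat_lit 495)))
  (.leaf (nat_lit 132)))
  (.node (.leaf (nat_lit 276045063))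
  (.leaf (nat_lit 9225))))
def y5502_N_4 : Tr := .node (.node (.node (.node (.leaf (nat_lit 99425))
  (.leaf (nat_lit 10250)))
  (.leaf (nat_lit 310681896)))
  (.node (.node (.leaf (nat_lit 232675))
  (.leaf (nat_lit 528)))
  (.leaf (nat_lit 165))))
  (.node (.node (.node (.leaf (nat_lit 133250))
  (.leaf (nat_lit 429)))
  (.leaf (nat_lit 2050)))
  (.node (.leaf (nat_lit 332100))
  (.leaf (nat_lit 264))))
def y5502_N_5 : Tr := .node (.node (.node (.node (.leaf (nat_lit 263425))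
  (.leaf (nat_lit 396)))
  (.leaf (nat_lit 33)))
  (.node (.node (.leaf (nat_lit 172134564))
  (.leaf (nat_lit 0)))
  (.leaf (nat_lit 6150))))
  (.node (.node (.node (.leaf (nat_lit 297250))
  (.leaf (nat_lit 14350)))
  (.leaf (nat_lit 132)))
  (.node (.leaf (nat_lit 333125))
  (.leaf (nat_lit 297))))
def y5502_N_6 : Tr := .node (.node (.node (.node (.leaf (nat_lit 165025))
  (.leaf (nat_lit 363)))
  (.leaf (nat_lit 345318729)))
  (.node (.node (.leaf (nat_lit 298275))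
  (.leaf (nat_lit 16400)))
  (.leaf (nat_lit 198))))
  (.node (.node (.node (.leaf (nat_lit 231650))
  (.leaf (nat_lit 462)))
  (.leaf (nat_lit 99)))
  (.node (.leaf (nat_lit 267525))
  (.leaf (nat_lit 8200))))
def y5502_N_7 : Tr := .node (.node (.node (.node (.leaf (nat_lit 329025))
  (.leaf (nat_lit 12300)))
  (.leaf (nat_lit 66)))
  (.node (.leaf (nat_lit 266500))
  (.leaf (nat_lit 231))))
  (.node (.node (.node (.leaf (nat_lit 137497731))
  (.leaf (nat_lit 495)))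
  (.leaf (nat_lit 4100)))
  (.node (.leaf (nat_lit 302375))
  (.leaf (nat_lit 330))))
def y5502_N : Tr := .node (.node (.node y5502_N_0
  y5502_N_1)
  (.node y5502_N_2
  y5502_N_3))
  (.node (.node y5502_N_4
  y5502_N_5)
  (.node y5502_N_6
  y5502_N_7))
noncomputable def y5502 : TC :=
  ⟨[.l 0, .l 1, .l 2, .l 3, .l 4, .l 5, .l 6, .l 7, .l 8, .l 9, .l 10, .l 11, .l 12, .l 13, .l 14, .l 15, .l 16],
    (nat_lit 4), (nat_lit 8), (nat_lit 0x107b9ac5a928398a418820), (nat_lit 959), (nat_lit 10), (nat_lit 8), (nat_lit 32), (nat_lit 2), (nat_lit 86),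
    get (nat_lit 10) (nat_lit 0x1003010030080400c02010030080400c02010030080400c02010030080400c02010030080400c02010030080400c02010030080400c02010030080400c02018040180401006010040100401004010040180401004010040180401004010040100601004010060100401006), Tr.get y5502_N, get (nat_lit 20) (nat_lit 0x3ff003ff003ff003ff003ff003ff003ff003ff003ff003ff003ff003ff003ff003ff003ff003ff003ff003ff003ff003ff003ff003ff003ff003ff003ff003ff003ff003ff003ff003ff003ff003ff003ff003ff003ff003ff003ff003ff003ff003ff003ff003ff003ff003ff003ff003ff003ff003ff003ff003ff000230002200021000200001f0001e0001d0001c0001b0001a000190001800017000160001500014000130001200011000100000f0000e0000d0000c0000b0000a00009000080000700006000050000400003000020000100000),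
    Tr.get3 y5502_F (nat_lit 18) (nat_lit 5), Tr.get3 y5502_T (nat_lit 4) (nat_lit 7), Tr.get y5502_P⟩

theorem y5502_head : y5502.headOK y5502_rels iv = true := by decide +kernel

theorem y5502_b0 : allFrom (nat_lit 0) (nat_lit 2) y5502.blockOK = true := by decide +kernel

def y5502_Q10 : Tr := .leaf (nat_lit 0xa090827466584a3e0302)
theorem y5502_f10_0 : allFrom (nat_lit 0) (nat_lit 10) (y5502.finOK (nat_lit 10) (Tr.get3 y5502_Q10 (nat_lit 8) (nat_lit 6)) (nat_lit 10)) = true := by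
  decide +kernel

def y5502_Q9 : Tr := .leaf (nat_lit 0x9e8e807264564c050422)
theorem y5502_f9_0 : allFrom (nat_lit 0) (nat_lit 10) (y5502.finOK (nat_lit 10) (Tr.get3 y5502_Q9 (nat_lit 8) (nat_lit 6)) (nat_lit 9)) = true := by
  decide +kernel

def y5502_Q8 : Tr := .leaf (nat_lit 0x9c8c7e70625a07063020)
theorem y5502_f8_0 : allFrom (nat_lit 0) (nat_lit 10) (y5502.finOK (nat_lit 10) (Tr.get3 y5502_Q8 (nat_lit 8) (nat_lit 6)) (nat_lit 8)) = true := by
  decide +kernel

def y5502_Q7 : Tr := .leaf (nat_lit 0x9a8a7c6e6809083c2e1e)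
theorem y5502_f7_0 : allFrom (nat_lit 0) (nat_lit 10) (y5502.finOK (nat_lit 10) (Tr.get3 y5502_Q7 (nat_lit 8) (nat_lit 6)) (nat_lit 7)) = true := by
  decide +kernel

def y5502_Q5 : Tr := .leaf (nat_lit 0x992f5b305490e961c)
theorem y5502_f5_0 : allFrom (nat_lit 0) (nat_lit 10) (y5502.finOK (nat_lit 10) (Tr.get3 y5502_Q5 (nat_lit 7) (nat_lit 7)) (nat_lit 5)) = true := by
  decide +kernel

def y5502_Q4 : Tr := .leaf (nat_lit 0xa211106a5e5246382a1a)
theorem y5502_f4_0 : allFrom (nat_lit 0) (nat_lit 10) (y5502.finOK (nat_lit 10) (Tr.get3 y5502_Q4 (nat_lit 8) (nat_lit 6)) (nat_lit 4)) = true := by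
  decide +kernel

def y5502_Q3 : Tr := .leaf (nat_lit 0x98920f0e5c5044362818)
theorem y5502_f3_0 : allFrom (nat_lit 0) (nat_lit 10) (y5502.finOK (nat_lit 10) (Tr.get3 y5502_Q3 (nat_lit 8) (nat_lit 6)) (nat_lit 3)) = true := by
  decide +kernel

def y5502_Q2 : Tr := .leaf (nat_lit 0x9688840d0c4e42342616)
theorem y5502_f2_0 : allFrom (nat_lit 0) (nat_lit 10) (y5502.finOK (nat_lit 10) (Tr.get3 y5502_Q2 (nat_lit 8) (nat_lit 6)) (nat_lit 2)) = true := by
  decide +kernel

def y5502_Q1 : Tr := .leaf (nat_lit 0x948678760b0a40322414)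
theorem y5502_f1_0 : allFrom (nat_lit 0) (nat_lit 10) (y5502.finOK (nat_lit 10) (Tr.get3 y5502_Q1 (nat_lit 8) (nat_lit 6)) (nat_lit 1)) = true := by
  decide +kernel

theorem y5502_blocks : ∀ t < y5502.k, y5502.blockOK t = true :=
  (of_allFrom_append of_lt_zero y5502_b0)

/-- index 10 max 10 total 10 facts 82 | needed cosets 10 facts 82 steps 208 trivial 0 -/
theorem y5502_index {G : Type*} [Group G] {γ : ℕ → G} (hL : Lab γ iv) (hr : ∀ t ∈ y5502_rels, t.ev γ = 1) {K : Subgroup G}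
    (hK : ∀ t ∈ ([.l 1, .l 2, .l 3, .l 4, .l 5, .l 7, .l 8, .l 9] : List W), t.ev γ ∈ K) :
    K.relIndex (genW γ [.l 1, .l 2, .l 3, .l 4, .l 5, .l 7, .l 8, .l 9, .l 10]) ≠ 0 ∧ K.relIndex (genW γ [.l 1, .l 2, .l 3, .l 4, .l 5, .l 7, .l 8, .l 9, .l 10]) ≤ 10 :=
  TC.relIndex_le (D := y5502) (gens := [1, 2, 3, 4, 5, 7, 8, 9, 10]) hL (List.forall_mem_cons.2 ⟨hL.zero_mem K, hK⟩) hr y5502_head y5502_blocks (by decide) (by decide)
   (List.forall_mem_cons.2 ⟨⟨_, (of_allFrom_append of_lt_zero y5502_f1_0)⟩,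
    List.forall_mem_cons.2 ⟨⟨_, (of_allFrom_append of_lt_zero y5502_f2_0)⟩,
    List.forall_mem_cons.2 ⟨⟨_, (of_allFrom_append of_lt_zero y5502_f3_0)⟩,
    List.forall_mem_cons.2 ⟨⟨_, (of_allFrom_append of_lt_zero y5502_f4_0)⟩,
    List.forall_mem_cons.2 ⟨⟨_, (of_allFrom_append of_lt_zero y5502_f5_0)⟩,
    List.forall_mem_cons.2 ⟨⟨_, (of_allFrom_append of_lt_zero y5502_f7_0)⟩,
    List.forall_mem_cons.2 ⟨⟨_, (of_allFrom_append of_lt_zero y5502_f8_0)⟩,
    List.forall_mem_cons.2 ⟨⟨_, (of_allFrom_append of_lt_zero y5502_f9_0)⟩,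
    List.forall_mem_cons.2 ⟨⟨_, (of_allFrom_append of_lt_zero y5502_f10_0)⟩,
    fun _ h => absurd h List.not_mem_nil⟩⟩⟩⟩⟩⟩⟩⟩⟩)

def y5503_rels : List W := [.pow (.mul (.l 1) (.l 2)) 3, .pow (.mul (.l 1) (.l 3)) 2, .pow (.mul (.l 1) (.l 4)) 2, .pow (.mul (.l 1) (.l 5)) 2, .pow (.mul (.l 1) (.l 7)) 3, .pow (.mul (.l 1) (.l 8)) 2, .pow (.mul (.l 1) (.l 9)) 2, .pow (.mul (.l 2) (.l 3)) 3, .pow (.mul (.l 2) (.l 4)) 2, .pow (.mul (.l 2) (.l 5)) 2, .pow (.mul (.l 2) (.l 7)) 2, .pow (.mul (.l 2) (.l 8)) 2, .pow (.mul (.l 2) (.l 9)) 2, .pow (.mul (.l 3) (.l 4)) 3, .pow (.mul (.l 3) (.l 5)) 2, .pow (.mul (.l 3) (.l 7)) 2, .pow (.mul (.l 3) (.l 8)) 2, .pow (.mul (.l 3) (.l 9)) 2, .pow (.mul (.l 4) (.l 5)) 3, .pow (.mul (.l 4) (.l 7)) 2, .pow (.mul (.l 4) (.l 8)) 2, .pow (.mul (.l 4) (.l 9)) 2, .pow (.mul (.l 5) (.l 7)) 2, .pow (.mul (.l 5) (.l 8)) 2, .pow (.mul (.l 5) (.l 9)) 2, .pow (.mul (.l 7) (.l 8)) 3, .pow (.mul (.l 7) (.l 9)) 2, .pow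 (.mul (.l 8) (.l 9)) 3]
def y5503_F : Tr := .leaf (nat_lit 0x110883c1e0b058241207038140a030183b9dcae572391c6e371389c2e170b0592c962b1588c461b0d84c26128952a9542a14aa55229146a351a0d1289442210e8742a15088442190d269341a0ce6732994c261329149249241208e47211088241248a450281389c46231108842211482410080381c08040180c0402008041309743a18ec750a8504823198c88441289400000)
def y5503_T : Tr := .leaf (nat_lit 36344967696)
def y5503_P : Tr := .node (.leaf (nat_lit 0xc510d0000f0c5b0d0000a0a0839090b002000a4d0b002060a4b0b002050a470b002030a450b002020a4f0b0020108062f0709002070841090020c083f090020b083d090020a083b09002090843090020806042505070020d06350700211063307002100631070020f0637070020e062d0700001040219030500212042b050021504290500214042705002130423050000804210500002021f0300218021d0300217021b03002160217030000e0215030000902130300003))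
  (.leaf (nat_lit 0x1ff001ff001ff001ff001ff001ff001ff001ff001ff001ff001ff001ff001ff001ff001ff100e650f110001b1073110001a10711100018106f1100015106d1100011106b110000c106911000060e0c570d0f000190e630f000170e610f000140e5f0f000100e5d0f0000b0e670f000050c0a490b0d000040c590d0021a0c550d000160c530d00013))
def y5503_N_0 : Tr := .node (.node (.node (.node (.leaf (nat_lit 68224065))
  (.leaf (nat_lit 429)))
  (.leaf (nat_lit 66)))
  (.node (.leaf (nat_lit 265475))
  (.leaf (nat_lit 7175))))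
  (.node (.node (.node (.leaf (nat_lit 133250))
  (.leaf (nat_lit 15375)))
  (.leaf (nat_lit 165)))
  (.node (.leaf (nat_lit 300325))
  (.leaf (nat_lit 330))))
def y5503_N_1 : Tr := .node (.node (.node (.node (.leaf (nat_lit 236160225))
  (.leaf (nat_lit 462)))
  (.leaf (nat_lit 3075)))
  (.node (.leaf (nat_lit 266500))
  (.leaf (nat_lit 297))))
  (.node (.node (.node (.leaf (nat_lit 297250))
  (.leaf (nat_lit 0)))
  (.leaf (nat_lit 198)))
  (.node (.leaf (nat_lit 33))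
  (.leaf (nat_lit 11275))))
def y5503_N_2 : Tr := .node (.node (.node (.node (.leaf (nat_lit 132225))
  (.leaf (nat_lit 13325)))
  (.leaf (nat_lit 99)))
  (.node (.leaf (nat_lit 172134564))
  (.leaf (nat_lit 264))))
  (.node (.node (.node (.leaf (nat_lit 231650))
  (.leaf (nat_lit 528)))
  (.leaf (nat_lit 5125)))
  (.node (.leaf (nat_lit 302375))
  (.leaf (nat_lit 363))))
def y5503_N_3 : Tr := .node (.node (.node (.node (.leaf (nat_lit 296225))
  (.leaf (nat_lit 495)))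
  (.leaf (nat_lit 132)))
  (.node (.leaf (nat_lit 234725))
  (.leaf (nat_lit 9225))))
  (.node (.node (.leaf (nat_lit 167075))
  (.leaf (nat_lit 231)))
  (.node (.leaf (nat_lit 1025))
  (.leaf (nat_lit 396))))
def y5503_N_4 : Tr := .node (.node (.node (.node (.leaf (nat_lit 99425))
  (.leaf (nat_lit 429)))
  (.leaf (nat_lit 2050)))
  (.node (.leaf (nat_lit 298275))
  (.leaf (nat_lit 264))))
  (.node (.node (.node (.leaf (nat_lit 166050))
  (.leaf (nat_lit 528)))
  (.leaf (nat_lit 165)))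
  (.node (.leaf (nat_lit 276045063))
  (.leaf (nat_lit 10250))))
def y5503_N_5 : Tr := .node (.node (.node (.node (.leaf (nat_lit 263425))
  (.leaf (nat_lit 14350)))
  (.leaf (nat_lit 132)))
  (.node (.leaf (nat_lit 299300))
  (.leaf (nat_lit 297))))
  (.node (.node (.node (.leaf (nat_lit 137497731))
  (.leaf (nat_lit 0)))
  (.leaf (nat_lit 6150)))
  (.node (.leaf (nat_lit 33))
  (.leaf (nat_lit 396))))
def y5503_N_6 : Tr := .node (.node (.node (.node (.leaf (nat_lit 165025))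
  (.leaf (nat_lit 462)))
  (.leaf (nat_lit 99)))
  (.node (.leaf (nat_lit 233700))
  (.leaf (nat_lit 8200))))
  (.node (.node (.node (.leaf (nat_lit 264450))
  (.leaf (nat_lit 16400)))
  (.leaf (nat_lit 198)))
  (.node (.leaf (nat_lit 310681896))
  (.leaf (nat_lit 363))))
def y5503_N_7 : Tr := .node (.node (.node (.node (.leaf (nat_lit 102860898))
  (.leaf (nat_lit 495)))
  (.leaf (nat_lit 4100)))
  (.node (.leaf (nat_lit 267525))
  (.leaf (nat_lit 330))))
  (.node (.node (.leaf (nat_lit 232675))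
  (.leaf (nat_lit 231)))
  (.node (.leaf (nat_lit 66))
  (.leaf (nat_lit 12300))))
def y5503_N : Tr := .node (.node (.node y5503_N_0
  y5503_N_1)
  (.node y5503_N_2
  y5503_N_3))
  (.node (.node y5503_N_4
  y5503_N_5)
  (.node y5503_N_6
  y5503_N_7))
noncomputable def y5503 : TC :=
  ⟨[.l 0, .l 1, .l 2, .l 3, .l 4, .l 5, .l 6, .l 7, .l 8, .l 9, .l 10, .l 11, .l 12, .l 13, .l 14, .l 15, .l 16],
    (nat_lit 4), (nat_lit 8), (nat_lit 0x107b9ac5a928398a418820), (nat_lit 927), (nat_lit 9), (nat_lit 7), (nat_lit 32), (nat_lit 2), (nat_lit 78),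
    get (nat_lit 10) (nat_lit 0x1003010030080400c02010030080400c02010030080400c02010030080400c02010030080400c02010030080400c02010030080400c02010030080400c020180401804010040100401006010040100401804010040100401804010060100401006), Tr.get y5503_N, get (nat_lit 20) (nat_lit 0x3ff003ff003ff003ff003ff003ff003ff003ff003ff003ff003ff003ff003ff003ff003ff003ff003ff003ff003ff003ff003ff003ff003ff003ff003ff003ff003ff003ff003ff003ff003ff003ff003ff003ff003ff003ff003ff003ff003ff003ff003ff003ff003ff003ff003ff003ff003ff003ff003ff003ff0001b0001a000190001800017000160001500014000130001200011000100000f0000e0000d0000c0000b0000a00009000080000700006000050000400003000020000100000),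
    Tr.get3 y5503_F (nat_lit 18) (nat_lit 5), Tr.get3 y5503_T (nat_lit 4) (nat_lit 7), Tr.get y5503_P⟩

theorem y5503_head : y5503.headOK y5503_rels iv = true := by decide +kernel

theorem y5503_b0 : allFrom (nat_lit 0) (nat_lit 2) y5503.blockOK = true := by decide +kernel

def y5503_Q9 : Tr := .leaf (nat_lit 0x112192c4c80d151e)
theorem y5503_f9_0 : allFrom (nat_lit 0) (nat_lit 9) (y5503.finOK (nat_lit 9) (Tr.get3 y5503_Q9 (nat_lit 7) (nat_lit 7)) (nat_lit 9)) = true := by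
  decide +kernel

def y5503_Q8 : Tr := .leaf (nat_lit 0x800f0e564a3e32281c)
theorem y5503_f8_0 : allFrom (nat_lit 0) (nat_lit 9) (y5503.finOK (nat_lit 9) (Tr.get3 y5503_Q8 (nat_lit 8) (nat_lit 6)) (nat_lit 8)) = true := by
  decide +kernel

def y5503_Q7 : Tr := .leaf (nat_lit 0x7ee43464878c131a)
theorem y5503_f7_0 : allFrom (nat_lit 0) (nat_lit 9) (y5503.finOK (nat_lit 9) (Tr.get3 y5503_Q7 (nat_lit 7) (nat_lit 7)) (nat_lit 7)) = true := by
  decide +kernel

def y5503_Q5 : Tr := .leaf (nat_lit 0x7ce18aa4674d8182)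
theorem y5503_f5_0 : allFrom (nat_lit 0) (nat_lit 9) (y5503.finOK (nat_lit 9) (Tr.get3 y5503_Q5 (nat_lit 7) (nat_lit 7)) (nat_lit 5)) = true := by
  decide +kernel

def y5503_Q4 : Tr := .leaf (nat_lit 0x7add829448414218)
theorem y5503_f4_0 : allFrom (nat_lit 0) (nat_lit 9) (y5503.finOK (nat_lit 9) (Tr.get3 y5503_Q4 (nat_lit 7) (nat_lit 7)) (nat_lit 4)) = true := by
  decide +kernel

def y5503_Q3 : Tr := .leaf (nat_lit 0x78d97a84e0e19216)
theorem y5503_f3_0 : allFrom (nat_lit 0) (nat_lit 9) (y5503.finOK (nat_lit 9) (Tr.get3 y5503_Q3 (nat_lit 7) (nat_lit 7)) (nat_lit 3)) = true := by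
  decide +kernel

def y5503_Q2 : Tr := .leaf (nat_lit 0x76d572d0910b9114)
theorem y5503_f2_0 : allFrom (nat_lit 0) (nat_lit 9) (y5503.finOK (nat_lit 9) (Tr.get3 y5503_Q2 (nat_lit 7) (nat_lit 7)) (nat_lit 2)) = true := by
  decide +kernel

def y5503_Q1 : Tr := .leaf (nat_lit 0x74d19858a70b1012)
theorem y5503_f1_0 : allFrom (nat_lit 0) (nat_lit 9) (y5503.finOK (nat_lit 9) (Tr.get3 y5503_Q1 (nat_lit 7) (nat_lit 7)) (nat_lit 1)) = true := by
  decide +kernel

theorem y5503_blocks : ∀ t < y5503.k, y5503.blockOK t = true :=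
  (of_allFrom_append of_lt_zero y5503_b0)

/-- index 9 max 9 total 9 facts 65 | needed cosets 9 facts 65 steps 161 trivial 0 -/
theorem y5503_index {G : Type*} [Group G] {γ : ℕ → G} (hL : Lab γ iv) (hr : ∀ t ∈ y5503_rels, t.ev γ = 1) {K : Subgroup G}
    (hK : ∀ t ∈ ([.l 1, .l 2, .l 3, .l 4, .l 7, .l 8, .l 9] : List W), t.ev γ ∈ K) :
    K.relIndex (genW γ [.l 1, .l 2, .l 3, .l 4, .l 5, .l 7, .l 8, .l 9]) ≠ 0 ∧ K.relIndex (genW γ [.l 1, .l 2, .l 3, .l 4, .l 5, .l 7, .l 8, .l 9]) ≤ 9 :=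
  TC.relIndex_le (D := y5503) (gens := [1, 2, 3, 4, 5, 7, 8, 9]) hL (List.forall_mem_cons.2 ⟨hL.zero_mem K, hK⟩) hr y5503_head y5503_blocks (by decide) (by decide)
   (List.forall_mem_cons.2 ⟨⟨_, (of_allFrom_append of_lt_zero y5503_f1_0)⟩,
    List.forall_mem_cons.2 ⟨⟨_, (of_allFrom_append of_lt_zero y5503_f2_0)⟩,
    List.forall_mem_cons.2 ⟨⟨_, (of_allFrom_append of_lt_zero y5503_f3_0)⟩,
    List.forall_mem_cons.2 ⟨⟨_, (of_allFrom_append of_lt_zero y5503_f4_0)⟩,
    List.forall_mem_cons.2 ⟨⟨_, (of_allFrom_append of_lt_zero y5503_f5_0)⟩,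
    List.forall_mem_cons.2 ⟨⟨_, (of_allFrom_append of_lt_zero y5503_f7_0)⟩,
    List.forall_mem_cons.2 ⟨⟨_, (of_allFrom_append of_lt_zero y5503_f8_0)⟩,
    List.forall_mem_cons.2 ⟨⟨_, (of_allFrom_append of_lt_zero y5503_f9_0)⟩,
    fun _ h => absurd h List.not_mem_nil⟩⟩⟩⟩⟩⟩⟩⟩)

def y5504_rels : List W := [.pow (.mul (.l 1) (.l 2)) 3, .pow (.mul (.l 1) (.l 3)) 2, .pow (.mul (.l 1) (.l 4)) 2, .pow (.mul (.l 1) (.l 7)) 3, .pow (.mul (.l 1) (.l 8)) 2, .pow (.mul (.l 1) (.l 9)) 2, .pow (.mul (.l 2) (.l 3)) 3, .pow (.mul (.l 2) (.l 4)) 2, .pow (.mul (.l 2) (.l 7)) 2, .pow (.mul (.l 2) (.l 8)) 2, .pow (.mul (.l 2) (.l 9)) 2, .pow (.mul (.l 3) (.l 4)) 3, .pow (.mul (.l 3) (.l 7)) 2, .pow (.mul (.l 3) (.l 8)) 2, .pow (.mul (.l 3) (.l 9)) 2, .pow (.mul (.l 4) (.l 7)) 2, .pow (.mul (.l 4) (.l 8)) 2, .pow (.mul (.l 4) (.l 9)) 2, .pow (.mul (.l 7) (.l 8)) 3, .pow (.mul (.l 7) (.l 9)) 2, .pow (.mul (.l 8) (.l 9)) 3]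
def y5504_F : Tr := .leaf (nat_lit 0x1f1f4f4f47473f3f17170f0f16164e4e46463e3e0e0e0d0d4d4d45453d3d25253c3c4c4c444424241c1c43434b4b23231b1b13134a4a22221a1a12120a0a3939212119191111090940403838202018181010080827261e1d15140c0b3b3a424149480000)
def y5504_T : Tr := .leaf (nat_lit 16434824)
def y5504_P : Tr := .node (.leaf (nat_lit 0xe570f000070e4f0f000020c0a3b0b0d000060c4b0d0020e0c490d0020d0c470d0020c0c4d0d000010a0831090b000000a410b0020a0a3f0b002090a430b002080a3d0b0020708062707090020308370900205083909002040835090020208330900201060425050700212062f0700213062d070000f062b070000c0629070000804021b030500214042305000100421050000d041f0500009041d050000402190300013021703000110215030000e0213030000a02110300005))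
  (.leaf (nat_lit 0x1ff001ff001ff001ff001ff001ff001ff001ff001ff001ff001ff001ff001ff001ff001ff001ff001ff001ff001ff001ff001ff001ff001ff001ff001ff001ff001ff001ff0e0c450d0f0000b0e550f002110e530f002100e510f0020f))
def y5504_N_0 : Tr := .node (.node (.node (.node (.leaf (nat_lit 68224065))
  (.leaf (nat_lit 495)))
  (.leaf (nat_lit 4100)))
  (.node (.leaf (nat_lit 266500))
  (.leaf (nat_lit 330))))
  (.node (.node (.leaf (nat_lit 231650))
  (.leaf (nat_lit 231)))
  (.node (.leaf (nat_lit 66))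
  (.leaf (nat_lit 12300))))
def y5504_N_1 : Tr := .node (.node (.node (.node (.leaf (nat_lit 263425))
  (.leaf (nat_lit 16400)))
  (.leaf (nat_lit 198)))
  (.node (.leaf (nat_lit 310681896))
  (.leaf (nat_lit 363))))
  (.node (.node (.leaf (nat_lit 232675))
  (.leaf (nat_lit 8200)))
  (.node (.leaf (nat_lit 99))
  (.leaf (nat_lit 462))))
def y5504_N_2 : Tr := .node (.node (.node (.node (.leaf (nat_lit 132225))
  (.leaf (nat_lit 528)))
  (.leaf (nat_lit 165)))
  (.node (.leaf (nat_lit 276045063))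
  (.leaf (nat_lit 10250))))
  (.node (.node (.leaf (nat_lit 297250))
  (.leaf (nat_lit 264)))
  (.node (.leaf (nat_lit 2050))
  (.leaf (nat_lit 429))))
def y5504_N_3 : Tr := .node (.node (.node (.node (.leaf (nat_lit 102860898))
  (.leaf (nat_lit 0)))
  (.leaf (nat_lit 6150)))
  (.node (.leaf (nat_lit 33))
  (.leaf (nat_lit 396))))
  (.node (.node (.leaf (nat_lit 298275))
  (.leaf (nat_lit 297)))
  (.node (.leaf (nat_lit 132))
  (.leaf (nat_lit 14350))))
def y5504_N_4 : Tr := .node (.node (.node (.node (.leaf (nat_lit 99425))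
  (.leaf (nat_lit 15375)))
  (.leaf (nat_lit 165)))
  (.node (.leaf (nat_lit 299300))
  (.leaf (nat_lit 330))))
  (.node (.node (.leaf (nat_lit 264450))
  (.leaf (nat_lit 7175)))
  (.node (.leaf (nat_lit 66))
  (.leaf (nat_lit 429))))
def y5504_N_5 : Tr := .node (.node (.node (.node (.leaf (nat_lit 296225))
  (.leaf (nat_lit 0)))
  (.leaf (nat_lit 198)))
  (.node (.leaf (nat_lit 33))
  (.leaf (nat_lit 11275))))
  (.node (.node (.leaf (nat_lit 265475))
  (.leaf (nat_lit 297)))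
  (.node (.leaf (nat_lit 3075))
  (.leaf (nat_lit 462))))
def y5504_N_6 : Tr := .node (.node (.node (.node (.leaf (nat_lit 236160225))
  (.leaf (nat_lit 528)))
  (.leaf (nat_lit 5125)))
  (.node (.leaf (nat_lit 302375))
  (.leaf (nat_lit 363))))
  (.node (.node (.leaf (nat_lit 137497731))
  (.leaf (nat_lit 264)))
  (.node (.leaf (nat_lit 99))
  (.leaf (nat_lit 13325))))
def y5504_N : Tr := .node (.node (.node y5504_N_0
  y5504_N_1)
  (.node y5504_N_2
  y5504_N_3))
  (.node (.node y5504_N_4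
  y5504_N_5)
  (.node y5504_N_6
  (.node (.node (.node (.leaf (nat_lit 133250))
  (.leaf (nat_lit 231)))
  (.node (.leaf (nat_lit 1025))
  (.leaf (nat_lit 396))))
  (.node (.node (.leaf (nat_lit 233700))
  (.leaf (nat_lit 9225)))
  (.node (.leaf (nat_lit 132))
  (.leaf (nat_lit 495)))))))
noncomputable def y5504 : TC :=
  ⟨[.l 0, .l 1, .l 2, .l 3, .l 4, .l 5, .l 6, .l 7, .l 8, .l 9, .l 10, .l 11, .l 12, .l 13, .l 14, .l 15, .l 16],
    (nat_lit 3), (nat_lit 8), (nat_lit 0x107b9ac5a928398a418820), (nat_lit 415), (nat_lit 8), (nat_lit 6), (nat_lit 32), (nat_lit 2), (nat_lit 71),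
    get (nat_lit 10) (nat_lit 0x400c0400c02010030080400c02010030080400c02010030080400c02010030080400c02010030080400c02010030080400c02010030080400c02010030080601006010040100401004018040100401006010040180401006), Tr.get y5504_N, get (nat_lit 20) (nat_lit 0x3ff003ff003ff003ff003ff003ff003ff003ff003ff003ff003ff003ff003ff003ff003ff003ff003ff003ff003ff003ff003ff003ff003ff003ff003ff003ff003ff003ff003ff003ff003ff003ff003ff003ff003ff003ff003ff003ff003ff003ff003ff003ff003ff003ff003ff003ff003ff003ff003ff003ff00014000130001200011000100000f0000e0000d0000c0000b0000a00009000080000700006000050000400003000020000100000),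
    Tr.get3 y5504_F (nat_lit 16) (nat_lit 5), Tr.get3 y5504_T (nat_lit 3) (nat_lit 8), Tr.get y5504_P⟩

theorem y5504_head : y5504.headOK y5504_rels iv = true := by decide +kernel

theorem y5504_b0 : allFrom (nat_lit 0) (nat_lit 2) y5504.blockOK = true := by decide +kernel

def y5504_Q9 : Tr := .leaf (nat_lit 0xc1525406cb8182)
theorem y5504_f9_0 : allFrom (nat_lit 0) (nat_lit 8) (y5504.finOK (nat_lit 8) (Tr.get3 y5504_Q9 (nat_lit 7) (nat_lit 7)) (nat_lit 9)) = true := by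
  decide +kernel

def y5504_Q8 : Tr := .leaf (nat_lit 0xbd4a43e701421a)
theorem y5504_f8_0 : allFrom (nat_lit 0) (nat_lit 8) (y5504.finOK (nat_lit 8) (Tr.get3 y5504_Q8 (nat_lit 7) (nat_lit 7)) (nat_lit 8)) = true := by
  decide +kernel

def y5504_Q7 : Tr := .leaf (nat_lit 0xb9423420e19218)
theorem y5504_f7_0 : allFrom (nat_lit 0) (nat_lit 8) (y5504.finOK (nat_lit 8) (Tr.get3 y5504_Q7 (nat_lit 7) (nat_lit 7)) (nat_lit 7)) = true := by
  decide +kernel

def y5504_Q4 : Tr := .leaf (nat_lit 0x1e3a23c68b1116)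
theorem y5504_f4_0 : allFrom (nat_lit 0) (nat_lit 8) (y5504.finOK (nat_lit 8) (Tr.get3 y5504_Q4 (nat_lit 7) (nat_lit 7)) (nat_lit 4)) = true := by
  decide +kernel

def y5504_Q3 : Tr := .leaf (nat_lit 0xc43463a64a9014)
theorem y5504_f3_0 : allFrom (nat_lit 0) (nat_lit 8) (y5504.finOK (nat_lit 8) (Tr.get3 y5504_Q3 (nat_lit 7) (nat_lit 7)) (nat_lit 3)) = true := by
  decide +kernel

def y5504_Q2 : Tr := .leaf (nat_lit 0xb55858a60a0f12)
theorem y5504_f2_0 : allFrom (nat_lit 0) (nat_lit 8) (y5504.finOK (nat_lit 8) (Tr.get3 y5504_Q2 (nat_lit 7) (nat_lit 7)) (nat_lit 2)) = true := by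
  decide +kernel

def y5504_Q1 : Tr := .leaf (nat_lit 0xb13a6091098e10)
theorem y5504_f1_0 : allFrom (nat_lit 0) (nat_lit 8) (y5504.finOK (nat_lit 8) (Tr.get3 y5504_Q1 (nat_lit 7) (nat_lit 7)) (nat_lit 1)) = true := by
  decide +kernel

theorem y5504_blocks : ∀ t < y5504.k, y5504.blockOK t = true :=
  (of_allFrom_append of_lt_zero y5504_b0)

/-- index 8 max 8 total 8 facts 50 | needed cosets 8 facts 50 steps 120 trivial 0 -/
theorem y5504_index {G : Type*} [Group G] {γ : ℕ → G} (hL : Lab γ iv) (hr : ∀ t ∈ y5504_rels, t.ev γ = 1) {K : Subgroup G}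
    (hK : ∀ t ∈ ([.l 1, .l 2, .l 3, .l 4, .l 7, .l 8] : List W), t.ev γ ∈ K) :
    K.relIndex (genW γ [.l 1, .l 2, .l 3, .l 4, .l 7, .l 8, .l 9]) ≠ 0 ∧ K.relIndex (genW γ [.l 1, .l 2, .l 3, .l 4, .l 7, .l 8, .l 9]) ≤ 8 :=
  TC.relIndex_le (D := y5504) (gens := [1, 2, 3, 4, 7, 8, 9]) hL (List.forall_mem_cons.2 ⟨hL.zero_mem K, hK⟩) hr y5504_head y5504_blocks (by decide) (by decide)
   (List.forall_mem_cons.2 ⟨⟨_, (of_allFrom_append of_lt_zero y5504_f1_0)⟩,
    List.forall_mem_cons.2 ⟨⟨_, (of_allFrom_append of_lt_zero y5504_f2_0)⟩,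
    List.forall_mem_cons.2 ⟨⟨_, (of_allFrom_append of_lt_zero y5504_f3_0)⟩,
    List.forall_mem_cons.2 ⟨⟨_, (of_allFrom_append of_lt_zero y5504_f4_0)⟩,
    List.forall_mem_cons.2 ⟨⟨_, (of_allFrom_append of_lt_zero y5504_f7_0)⟩,
    List.forall_mem_cons.2 ⟨⟨_, (of_allFrom_append of_lt_zero y5504_f8_0)⟩,
    List.forall_mem_cons.2 ⟨⟨_, (of_allFrom_append of_lt_zero y5504_f9_0)⟩,
    fun _ h => absurd h List.not_mem_nil⟩⟩⟩⟩⟩⟩⟩)

def y5505_rels : List W := [.pow (.mul (.l 1) (.l 2)) 3, .pow (.mul (.l 1) (.l 3)) 2, .pow (.mul (.l 1) (.l 4)) 2, .pow (.mul (.l 1) (.l 7)) 3, .pow (.mul (.l 1) (.l 8)) 2, .pow (.mul (.l 2) (.l 3)) 3, .pow (.mul (.l 2) (.l 4)) 2, .pow (.mul (.l 2) (.l 7)) 2, .pow (.mul (.l 2) (.l 8)) 2, .pow (.mul (.l 3) (.l 4)) 3, .pow (.mul (.l 3) (.l 7)) 2, .pow (.mul (.l 3) (.l 8)) 2, .pow (.mul (.l 4) (.l 7)) 2, .pow (.mul (.l 4) (.l 8)) 2, .pow (.mul (.l 7) (.l 8)) 3]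
def y5505_F : Tr := .leaf (nat_lit 0x3e3e26261e1e16160e0e0d0d25251d1d15151414444424241c1c1b1b43433b3b2323222242423a3a0a0a41413939111109094040383818181010080846453d3c0c0b13121a1921200000)
def y5505_T : Tr := .leaf (nat_lit 1754760)
def y5505_P : Tr := .leaf (nat_lit 0xff800ff800ff800ff800ff800ff800ff8c14d458d0000e18f46800068c76340002c6391a0001031f8d00004142158916000062998b0000c14c45800050a6e2c0001c406421c480100085a2400810429120040421789002010c10d850e0040a19287002080c8c380103864e1c00818202260c280104843e140082c21d0a0041410c8500001045c180106822a0c00830111060000c0878300002)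
def y5505_N_0 : Tr := .node (.node (.node (.node (.leaf (nat_lit 68224065))
  (.leaf (nat_lit 0)))
  (.leaf (nat_lit 6150)))
  (.node (.leaf (nat_lit 33))
  (.leaf (nat_lit 396))))
  (.node (.node (.leaf (nat_lit 264450))
  (.leaf (nat_lit 297)))
  (.node (.leaf (nat_lit 132))
  (.leaf (nat_lit 14350))))
def y5505_N_1 : Tr := .node (.node (.node (.node (.leaf (nat_lit 132225))
  (.leaf (nat_lit 231)))
  (.node (.leaf (nat_lit 66))
  (.leaf (nat_lit 12300))))
  (.node (.node (.leaf (nat_lit 232675))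
  (.leaf (nat_lit 330)))
  (.node (.leaf (nat_lit 4100))
  (.leaf (nat_lit 495)))))
  (.node (.node (.node (.leaf (nat_lit 133250))
  (.leaf (nat_lit 8200)))
  (.node (.leaf (nat_lit 99))
  (.leaf (nat_lit 462))))
  (.node (.node (.leaf (nat_lit 276045063))
  (.leaf (nat_lit 363)))
  (.node (.leaf (nat_lit 198))
  (.leaf (nat_lit 16400)))))
def y5505_N_2 : Tr := .node (.node (.node (.node (.leaf (nat_lit 99425))
  (.leaf (nat_lit 231)))
  (.node (.leaf (nat_lit 1025))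
  (.leaf (nat_lit 396))))
  (.node (.node (.leaf (nat_lit 137497731))
  (.leaf (nat_lit 9225)))
  (.node (.leaf (nat_lit 132))
  (.leaf (nat_lit 495)))))
  (.node (.node (.node (.leaf (nat_lit 102860898))
  (.leaf (nat_lit 264)))
  (.node (.leaf (nat_lit 99))
  (.leaf (nat_lit 13325))))
  (.node (.node (.leaf (nat_lit 266500))
  (.leaf (nat_lit 363)))
  (.node (.leaf (nat_lit 5125))
  (.leaf (nat_lit 528)))))
def y5505_N_3 : Tr := .node (.node (.node (.node (.leaf (nat_lit 236160225))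
  (.leaf (nat_lit 7175)))
  (.node (.leaf (nat_lit 66))
  (.leaf (nat_lit 429))))
  (.node (.node (.leaf (nat_lit 265475))
  (.leaf (nat_lit 330)))
  (.node (.leaf (nat_lit 165))
  (.leaf (nat_lit 15375)))))
  (.node (.node (.node (.leaf (nat_lit 231650))
  (.leaf (nat_lit 297)))
  (.node (.leaf (nat_lit 3075))
  (.leaf (nat_lit 462))))
  (.node (.node (.leaf (nat_lit 33))
  (.leaf (nat_lit 11275)))
  (.node (.leaf (nat_lit 198))
  (.leaf (nat_lit 0)))))
def y5505_N : Tr := .node (.node (.node y5505_N_0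
  (.node (.node (.node (.leaf (nat_lit 263425))
  (.leaf (nat_lit 264)))
  (.node (.leaf (nat_lit 2050))
  (.leaf (nat_lit 429))))
  (.node (.node (.leaf (nat_lit 233700))
  (.leaf (nat_lit 10250)))
  (.node (.leaf (nat_lit 165))
  (.leaf (nat_lit 528))))))
  y5505_N_1)
  (.node y5505_N_2
  y5505_N_3)
noncomputable def y5505 : TC :=
  ⟨[.l 0, .l 1, .l 2, .l 3, .l 4, .l 5, .l 6, .l 7, .l 8, .l 9, .l 10, .l 11, .l 12, .l 13, .l 14, .l 15, .l 16],
    (nat_lit 3), (nat_lit 7), (nat_lit 0x107b9ac5a928398a418820), (nat_lit 399), (nat_lit 7), (nat_lit 5), (nat_lit 32), (nat_lit 1), (nat_lit 65),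
    get (nat_lit 10) (nat_lit 0x400c0400c02010030080400c02010030080400c02010030080400c02010030080400c02010030080400c02010030080400c02010030080400c02010030080601004010040180401004018040180401006), Tr.get y5505_N, get (nat_lit 20) (nat_lit 0x3ff003ff003ff003ff003ff003ff003ff003ff003ff003ff003ff003ff003ff003ff003ff003ff003ff003ff003ff003ff003ff003ff003ff003ff003ff003ff003ff003ff003ff003ff003ff003ff003ff003ff003ff003ff003ff003ff003ff003ff003ff003ff003ff003ff003ff003ff003ff003ff003ff003ff0000e0000d0000c0000b0000a00009000080000700006000050000400003000020000100000),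
    Tr.get3 y5505_F (nat_lit 16) (nat_lit 5), Tr.get3 y5505_T (nat_lit 3) (nat_lit 8), Tr.get y5505_P⟩

theorem y5505_head : y5505.headOK y5505_rels iv = true := by decide +kernel

theorem y5505_b0 : allFrom (nat_lit 0) (nat_lit 1) y5505.blockOK = true := by decide +kernel

def y5505_Q8 : Tr := .leaf (nat_lit 907122198422)
theorem y5505_f8_0 : allFrom (nat_lit 0) (nat_lit 7) (y5505.finOK (nat_lit 7) (Tr.get3 y5505_Q8 (nat_lit 6) (nat_lit 7)) (nat_lit 8)) = true := by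
  decide +kernel

def y5505_Q7 : Tr := .leaf (nat_lit 317040078917140)
theorem y5505_f7_0 : allFrom (nat_lit 0) (nat_lit 7) (y5505.finOK (nat_lit 7) (Tr.get3 y5505_Q7 (nat_lit 7) (nat_lit 7)) (nat_lit 7)) = true := by
  decide +kernel

def y5505_Q4 : Tr := .leaf (nat_lit 309938346361218)
theorem y5505_f4_0 : allFrom (nat_lit 0) (nat_lit 7) (y5505.finOK (nat_lit 7) (Tr.get3 y5505_Q4 (nat_lit 7) (nat_lit 7)) (nat_lit 4)) = true := by
  decide +kernel

def y5505_Q3 : Tr := .leaf (nat_lit 301073009033746)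
theorem y5505_f3_0 : allFrom (nat_lit 0) (nat_lit 7) (y5505.finOK (nat_lit 7) (Tr.get3 y5505_Q3 (nat_lit 7) (nat_lit 7)) (nat_lit 3)) = true := by
  decide +kernel

def y5505_Q2 : Tr := .leaf (nat_lit 292209725377808)
theorem y5505_f2_0 : allFrom (nat_lit 0) (nat_lit 7) (y5505.finOK (nat_lit 7) (Tr.get3 y5505_Q2 (nat_lit 7) (nat_lit 7)) (nat_lit 2)) = true := by
  decide +kernel

def y5505_Q1 : Tr := .leaf (nat_lit 283607713713166)
theorem y5505_f1_0 : allFrom (nat_lit 0) (nat_lit 7) (y5505.finOK (nat_lit 7) (Tr.get3 y5505_Q1 (nat_lit 7) (nat_lit 7)) (nat_lit 1)) = true := by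
  decide +kernel

theorem y5505_blocks : ∀ t < y5505.k, y5505.blockOK t = true :=
  (of_allFrom_append of_lt_zero y5505_b0)

/-- index 7 max 7 total 7 facts 37 | needed cosets 7 facts 37 steps 85 trivial 0 -/
theorem y5505_index {G : Type*} [Group G] {γ : ℕ → G} (hL : Lab γ iv) (hr : ∀ t ∈ y5505_rels, t.ev γ = 1) {K : Subgroup G}
    (hK : ∀ t ∈ ([.l 1, .l 2, .l 3, .l 7, .l 8] : List W), t.ev γ ∈ K) :
    K.relIndex (genW γ [.l 1, .l 2, .l 3, .l 4, .l 7, .l 8]) ≠ 0 ∧ K.relIndex (genW γ [.l 1, .l 2, .l 3, .l 4, .l 7, .l 8]) ≤ 7 :=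
  TC.relIndex_le (D := y5505) (gens := [1, 2, 3, 4, 7, 8]) hL (List.forall_mem_cons.2 ⟨hL.zero_mem K, hK⟩) hr y5505_head y5505_blocks (by decide) (by decide)
   (List.forall_mem_cons.2 ⟨⟨_, (of_allFrom_append of_lt_zero y5505_f1_0)⟩,
    List.forall_mem_cons.2 ⟨⟨_, (of_allFrom_append of_lt_zero y5505_f2_0)⟩,
    List.forall_mem_cons.2 ⟨⟨_, (of_allFrom_append of_lt_zero y5505_f3_0)⟩,
    List.forall_mem_cons.2 ⟨⟨_, (of_allFrom_append of_lt_zero y5505_f4_0)⟩,
    List.forall_mem_cons.2 ⟨⟨_, (of_allFrom_append of_lt_zero y5505_f7_0)⟩,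
    List.forall_mem_cons.2 ⟨⟨_, (of_allFrom_append of_lt_zero y5505_f8_0)⟩,
    fun _ h => absurd h List.not_mem_nil⟩⟩⟩⟩⟩⟩)

def y5506_rels : List W := [.pow (.mul (.l 1) (.l 2)) 3, .pow (.mul (.l 1) (.l 3)) 2, .pow (.mul (.l 1) (.l 7)) 3, .pow (.mul (.l 1) (.l 8)) 2, .pow (.mul (.l 2) (.l 3)) 3, .pow (.mul (.l 2) (.l 7)) 2, .pow (.mul (.l 2) (.l 8)) 2, .pow (.mul (.l 3) (.l 7)) 2, .pow (.mul (.l 3) (.l 8)) 2, .pow (.mul (.l 7) (.l 8)) 3]
def y5506_F : Tr := .leaf (nat_lit 0x151545453d3d0d0d0c0c44443c3c3b3b43431b1b42421a1a121219191111090938381818101008081d1c14130b0a3a3941400000)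
def y5506_T : Tr := .leaf (nat_lit 181896)
def y5506_P : Tr := .leaf (nat_lit 0x1ff001ff001ff001ff001ff001ff001ff001ff001ff001ff001ff001ff001ff001ff001ff001ff142108916000082948b00208149c5801038a562c00004406361c48000008462400818425120040a182150a1c0080831f0e0040618e870020108089830a0041210c8500007085c28000282220c0002010f060000c0868300003)
def y5506_N_0 : Tr := .node (.node (.node (.node (.leaf (nat_lit 68224065))
  (.leaf (nat_lit 264)))
  (.node (.leaf (nat_lit 99))
  (.leaf (nat_lit 13325))))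
  (.node (.node (.leaf (nat_lit 265475))
  (.leaf (nat_lit 363)))
  (.node (.leaf (nat_lit 5125))
  (.leaf (nat_lit 528)))))
  (.node (.node (.node (.leaf (nat_lit 102860898))
  (.leaf (nat_lit 9225)))
  (.node (.leaf (nat_lit 132))
  (.leaf (nat_lit 495))))
  (.node (.node (.leaf (nat_lit 1025))
  (.leaf (nat_lit 396)))
  (.leaf (nat_lit 231))))
def y5506_N_1 : Tr := .node (.node (.node (.node (.leaf (nat_lit 236160225))
  (.leaf (nat_lit 297)))
  (.node (.leaf (nat_lit 3075))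
  (.leaf (nat_lit 462))))
  (.node (.node (.leaf (nat_lit 33))
  (.leaf (nat_lit 11275)))
  (.node (.leaf (nat_lit 198))
  (.leaf (nat_lit 0)))))
  (.node (.node (.node (.leaf (nat_lit 264450))
  (.leaf (nat_lit 330)))
  (.node (.leaf (nat_lit 165))
  (.leaf (nat_lit 15375))))
  (.node (.node (.leaf (nat_lit 66))
  (.leaf (nat_lit 429)))
  (.leaf (nat_lit 7175))))
def y5506_N_2 : Tr := .node (.node (.node (.node (.leaf (nat_lit 99425))
  (.leaf (nat_lit 8200)))
  (.node (.leaf (nat_lit 99))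
  (.leaf (nat_lit 462))))
  (.node (.node (.leaf (nat_lit 276045063))
  (.leaf (nat_lit 363)))
  (.node (.leaf (nat_lit 198))
  (.leaf (nat_lit 16400)))))
  (.node (.node (.node (.leaf (nat_lit 231650))
  (.leaf (nat_lit 330)))
  (.node (.leaf (nat_lit 4100))
  (.leaf (nat_lit 495))))
  (.node (.node (.leaf (nat_lit 66))
  (.leaf (nat_lit 12300)))
  (.leaf (nat_lit 231))))
def y5506_N_3 : Tr := .node (.node (.node (.node (.leaf (nat_lit 263425))
  (.leaf (nat_lit 297)))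
  (.node (.leaf (nat_lit 132))
  (.leaf (nat_lit 14350))))
  (.node (.node (.leaf (nat_lit 33))
  (.leaf (nat_lit 396)))
  (.node (.leaf (nat_lit 6150))
  (.leaf (nat_lit 0)))))
  (.node (.node (.node (.leaf (nat_lit 232675))
  (.leaf (nat_lit 10250)))
  (.node (.leaf (nat_lit 165))
  (.leaf (nat_lit 528))))
  (.node (.node (.leaf (nat_lit 2050))
  (.leaf (nat_lit 429)))
  (.leaf (nat_lit 264))))
def y5506_N : Tr := .node (.node y5506_N_0
  y5506_N_1)
  (.node y5506_N_2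
  y5506_N_3)
noncomputable def y5506 : TC :=
  ⟨[.l 0, .l 1, .l 2, .l 3, .l 4, .l 5, .l 6, .l 7, .l 8, .l 9, .l 10, .l 11, .l 12, .l 13, .l 14, .l 15, .l 16],
    (nat_lit 3), (nat_lit 7), (nat_lit 0x107b9ac5a928398a418820), (nat_lit 143), (nat_lit 6), (nat_lit 4), (nat_lit 32), (nat_lit 1), (nat_lit 60),
    get (nat_lit 10) (nat_lit 0x1003010030080400c02010030080400c02010030080400c02010030080400c02010030080400c02010030080400c02010030080400c02010030080400c020180401004010060100601006), Tr.get y5506_N, get (nat_lit 20) (nat_lit 0x3ff003ff003ff003ff003ff003ff003ff003ff003ff003ff003ff003ff003ff003ff003ff003ff003ff003ff003ff003ff003ff003ff003ff003ff003ff003ff003ff003ff003ff003ff003ff003ff003ff003ff003ff003ff003ff003ff003ff003ff003ff003ff003ff003ff003ff003ff003ff003ff003ff003ff00009000080000700006000050000400003000020000100000),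
    Tr.get3 y5506_F (nat_lit 16) (nat_lit 5), Tr.get3 y5506_T (nat_lit 3) (nat_lit 8), Tr.get y5506_P⟩

theorem y5506_head : y5506.headOK y5506_rels iv = true := by decide +kernel

theorem y5506_b0 : allFrom (nat_lit 0) (nat_lit 1) y5506.blockOK = true := by decide +kernel

def y5506_Q8 : Tr := .leaf (nat_lit 52219732162)
theorem y5506_f8_0 : allFrom (nat_lit 0) (nat_lit 6) (y5506.finOK (nat_lit 6) (Tr.get3 y5506_Q8 (nat_lit 6) (nat_lit 7)) (nat_lit 8)) = true := by
  decide +kernel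

def y5506_Q7 : Tr := .leaf (nat_lit 50039116050)
theorem y5506_f7_0 : allFrom (nat_lit 0) (nat_lit 6) (y5506.finOK (nat_lit 6) (Tr.get3 y5506_Q7 (nat_lit 6) (nat_lit 7)) (nat_lit 7)) = true := by
  decide +kernel

def y5506_Q3 : Tr := .leaf (nat_lit 11987437072)
theorem y5506_f3_0 : allFrom (nat_lit 0) (nat_lit 6) (y5506.finOK (nat_lit 6) (Tr.get3 y5506_Q3 (nat_lit 6) (nat_lit 7)) (nat_lit 3)) = true := by
  decide +kernel

def y5506_Q2 : Tr := .leaf (nat_lit 53840291214)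
theorem y5506_f2_0 : allFrom (nat_lit 0) (nat_lit 6) (y5506.finOK (nat_lit 6) (Tr.get3 y5506_Q2 (nat_lit 6) (nat_lit 7)) (nat_lit 2)) = true := by
  decide +kernel

def y5506_Q1 : Tr := .leaf (nat_lit 47951144204)
theorem y5506_f1_0 : allFrom (nat_lit 0) (nat_lit 6) (y5506.finOK (nat_lit 6) (Tr.get3 y5506_Q1 (nat_lit 6) (nat_lit 7)) (nat_lit 1)) = true := by
  decide +kernel

theorem y5506_blocks : ∀ t < y5506.k, y5506.blockOK t = true :=
  (of_allFrom_append of_lt_zero y5506_b0)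

/-- index 6 max 6 total 6 facts 26 | needed cosets 6 facts 26 steps 56 trivial 0 -/
theorem y5506_index {G : Type*} [Group G] {γ : ℕ → G} (hL : Lab γ iv) (hr : ∀ t ∈ y5506_rels, t.ev γ = 1) {K : Subgroup G}
    (hK : ∀ t ∈ ([.l 1, .l 2, .l 3, .l 7] : List W), t.ev γ ∈ K) :
    K.relIndex (genW γ [.l 1, .l 2, .l 3, .l 7, .l 8]) ≠ 0 ∧ K.relIndex (genW γ [.l 1, .l 2, .l 3, .l 7, .l 8]) ≤ 6 :=
  TC.relIndex_le (D := y5506) (gens := [1, 2, 3, 7, 8]) hL (List.forall_mem_cons.2 ⟨hL.zero_mem K, hK⟩) hr y5506_head y5506_blocks (by decide) (by decide)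
   (List.forall_mem_cons.2 ⟨⟨_, (of_allFrom_append of_lt_zero y5506_f1_0)⟩,
    List.forall_mem_cons.2 ⟨⟨_, (of_allFrom_append of_lt_zero y5506_f2_0)⟩,
    List.forall_mem_cons.2 ⟨⟨_, (of_allFrom_append of_lt_zero y5506_f3_0)⟩,
    List.forall_mem_cons.2 ⟨⟨_, (of_allFrom_append of_lt_zero y5506_f7_0)⟩,
    List.forall_mem_cons.2 ⟨⟨_, (of_allFrom_append of_lt_zero y5506_f8_0)⟩,
    fun _ h => absurd h List.not_mem_nil⟩⟩⟩⟩⟩)

def y5507_rels : List W := [.pow (.mul (.l 1) (.l 2)) 3, .pow (.mul (.l 1) (.l 3)) 2, .pow (.mul (.l 1) (.l 7)) 3, .pow (.mul (.l 2) (.l 3)) 3, .pow (.mul (.l 2) (.l 7)) 2, .pow (.mul (.l 3) (.l 7)) 2]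
def y5507_F : Tr := .leaf (nat_lit 0x14143c3c0c0c0b0b3b3b3a3a1a1a191911111818101008081c1b13120a0939380000)
def y5507_T : Tr := .leaf (nat_lit 18056)
def y5507_P : Tr := .leaf (nat_lit 0xff800ff800ff800ff800ff800ff800ff800ff800ff800ff800ff800ff800ff800ff800ff800ff800ff800ff800ff800ff800ff800ff800ff880c54389000031064480102883624000043042214380000062e1c00810202160c2801010426140080410f060000a0868300004)
def y5507_N_0 : Tr := .node (.node (.node (.node (.leaf (nat_lit 68224065))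
  (.leaf (nat_lit 9225)))
  (.node (.leaf (nat_lit 132))
  (.leaf (nat_lit 495))))
  (.node (.node (.leaf (nat_lit 1025))
  (.leaf (nat_lit 396)))
  (.leaf (nat_lit 231))))
  (.node (.node (.node (.leaf (nat_lit 231650))
  (.leaf (nat_lit 363)))
  (.node (.leaf (nat_lit 5125))
  (.leaf (nat_lit 528))))
  (.node (.node (.leaf (nat_lit 99))
  (.leaf (nat_lit 13325)))
  (.leaf (nat_lit 264))))
def y5507_N_1 : Tr := .node (.node (.node (.node (.leaf (nat_lit 236160225))
  (.leaf (nat_lit 330)))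
  (.node (.leaf (nat_lit 165))
  (.leaf (nat_lit 15375))))
  (.node (.node (.leaf (nat_lit 66))
  (.leaf (nat_lit 429)))
  (.leaf (nat_lit 7175))))
  (.node (.node (.node (.leaf (nat_lit 33))
  (.leaf (nat_lit 11275)))
  (.node (.leaf (nat_lit 198))
  (.leaf (nat_lit 0))))
  (.node (.node (.leaf (nat_lit 3075))
  (.leaf (nat_lit 462)))
  (.leaf (nat_lit 297))))
def y5507_N_2 : Tr := .node (.node (.node (.node (.leaf (nat_lit 99425))
  (.leaf (nat_lit 330)))
  (.node (.leaf (nat_lit 4100))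
  (.leaf (nat_lit 495))))
  (.node (.node (.leaf (nat_lit 66))
  (.leaf (nat_lit 12300)))
  (.leaf (nat_lit 231))))
  (.node (.node (.node (.leaf (nat_lit 232675))
  (.leaf (nat_lit 363)))
  (.node (.leaf (nat_lit 198))
  (.leaf (nat_lit 16400))))
  (.node (.node (.leaf (nat_lit 99))
  (.leaf (nat_lit 462)))
  (.leaf (nat_lit 8200))))
def y5507_N_3 : Tr := .node (.node (.node (.node (.leaf (nat_lit 102860898))
  (.leaf (nat_lit 10250)))
  (.node (.leaf (nat_lit 165))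
  (.leaf (nat_lit 528))))
  (.node (.node (.leaf (nat_lit 2050))
  (.leaf (nat_lit 429)))
  (.leaf (nat_lit 264))))
  (.node (.node (.node (.leaf (nat_lit 33))
  (.leaf (nat_lit 396)))
  (.node (.leaf (nat_lit 6150))
  (.leaf (nat_lit 0))))
  (.node (.node (.leaf (nat_lit 132))
  (.leaf (nat_lit 14350)))
  (.leaf (nat_lit 297))))
def y5507_N : Tr := .node (.node y5507_N_0
  y5507_N_1)
  (.node y5507_N_2
  y5507_N_3)
noncomputable def y5507 : TC :=
  ⟨[.l 0, .l 1, .l 2, .l 3, .l 4, .l 5, .l 6, .l 7, .l 8, .l 9, .l 10, .l 11, .l 12, .l 13, .l 14, .l 15, .l 16],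
    (nat_lit 3), (nat_lit 7), (nat_lit 0x107b9ac5a928398a418820), (nat_lit 15), (nat_lit 5), (nat_lit 3), (nat_lit 32), (nat_lit 1), (nat_lit 56),
    get (nat_lit 10) (nat_lit 0x1003010030080400c02010030080400c02010030080400c02010030080400c02010030080400c02010030080400c02010030080400c02010030080400c02010040180601006), Tr.get y5507_N, get (nat_lit 20) (nat_lit 0x3ff003ff003ff003ff003ff003ff003ff003ff003ff003ff003ff003ff003ff003ff003ff003ff003ff003ff003ff003ff003ff003ff003ff003ff003ff003ff003ff003ff003ff003ff003ff003ff003ff003ff003ff003ff003ff003ff003ff003ff003ff003ff003ff003ff003ff003ff003ff003ff003ff003ff000050000400003000020000100000),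
    Tr.get3 y5507_F (nat_lit 16) (nat_lit 5), Tr.get3 y5507_T (nat_lit 3) (nat_lit 8), Tr.get y5507_P⟩

theorem y5507_head : y5507.headOK y5507_rels iv = true := by decide +kernel

theorem y5507_b0 : allFrom (nat_lit 0) (nat_lit 1) y5507.blockOK = true := by decide +kernel

def y5507_Q7 : Tr := .leaf (nat_lit 32266338)
theorem y5507_f7_0 : allFrom (nat_lit 0) (nat_lit 5) (y5507.finOK (nat_lit 5) (Tr.get3 y5507_Q7 (nat_lit 5) (nat_lit 7)) (nat_lit 7)) = true := by
  decide +kernel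

def y5507_Q3 : Tr := .leaf (nat_lit 9720398)
theorem y5507_f3_0 : allFrom (nat_lit 0) (nat_lit 5) (y5507.finOK (nat_lit 5) (Tr.get3 y5507_Q3 (nat_lit 5) (nat_lit 7)) (nat_lit 3)) = true := by
  decide +kernel

def y5507_Q2 : Tr := .leaf (nat_lit 538731532)
theorem y5507_f2_0 : allFrom (nat_lit 0) (nat_lit 5) (y5507.finOK (nat_lit 5) (Tr.get3 y5507_Q2 (nat_lit 6) (nat_lit 7)) (nat_lit 2)) = true := by
  decide +kernel

def y5507_Q1 : Tr := .leaf (nat_lit 30217354)
theorem y5507_f1_0 : allFrom (nat_lit 0) (nat_lit 5) (y5507.finOK (nat_lit 5) (Tr.get3 y5507_Q1 (nat_lit 5) (nat_lit 7)) (nat_lit 1)) = true := by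
  decide +kernel

theorem y5507_blocks : ∀ t < y5507.k, y5507.blockOK t = true :=
  (of_allFrom_append of_lt_zero y5507_b0)

/-- index 5 max 5 total 5 facts 17 | needed cosets 5 facts 17 steps 33 trivial 0 -/
theorem y5507_index {G : Type*} [Group G] {γ : ℕ → G} (hL : Lab γ iv) (hr : ∀ t ∈ y5507_rels, t.ev γ = 1) {K : Subgroup G}
    (hK : ∀ t ∈ ([.l 1, .l 2, .l 3] : List W), t.ev γ ∈ K) :
    K.relIndex (genW γ [.l 1, .l 2, .l 3, .l 7]) ≠ 0 ∧ K.relIndex (genW γ [.l 1, .l 2, .l 3, .l 7]) ≤ 5 :=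
  TC.relIndex_le (D := y5507) (gens := [1, 2, 3, 7]) hL (List.forall_mem_cons.2 ⟨hL.zero_mem K, hK⟩) hr y5507_head y5507_blocks (by decide) (by decide)
   (List.forall_mem_cons.2 ⟨⟨_, (of_allFrom_append of_lt_zero y5507_f1_0)⟩,
    List.forall_mem_cons.2 ⟨⟨_, (of_allFrom_append of_lt_zero y5507_f2_0)⟩,
    List.forall_mem_cons.2 ⟨⟨_, (of_allFrom_append of_lt_zero y5507_f3_0)⟩,
    List.forall_mem_cons.2 ⟨⟨_, (of_allFrom_append of_lt_zero y5507_f7_0)⟩,
    fun _ h => absurd h List.not_mem_nil⟩⟩⟩⟩)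

def y5508_rels : List W := [.pow (.mul (.l 1) (.l 2)) 3, .pow (.mul (.l 1) (.l 3)) 2, .pow (.mul (.l 2) (.l 3)) 3]
def y5508_F : Tr := .leaf (nat_lit 0x162c78f1c3828510202040e185091a30000)
def y5508_T : Tr := .leaf (nat_lit 228)
def y5508_P : Tr := .leaf (nat_lit 0x1ff001ff001ff001ff001ff001ff001ff001ff001ff001ff001ff001ff001ff001ff001ff001ff001ff001ff001ff001ff001ff001ff001ff001ff001ff001ff001ff001ff0c106850e00400187870020108085830a004040848300001)
def y5508_N_0 : Tr := .node (.node (.node (.node (.leaf (nat_lit 68224065))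
  (.leaf (nat_lit 10250)))
  (.node (.leaf (nat_lit 165))
  (.leaf (nat_lit 528))))
  (.node (.node (.leaf (nat_lit 2050))
  (.leaf (nat_lit 429)))
  (.leaf (nat_lit 264))))
  (.node (.node (.node (.leaf (nat_lit 33))
  (.leaf (nat_lit 396)))
  (.node (.leaf (nat_lit 6150))
  (.leaf (nat_lit 0))))
  (.node (.node (.leaf (nat_lit 132))
  (.leaf (nat_lit 14350)))
  (.leaf (nat_lit 297))))
def y5508_N_1 : Tr := .node (.node (.node (.node (.leaf (nat_lit 102860898))
  (.leaf (nat_lit 363)))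
  (.node (.leaf (nat_lit 198))
  (.leaf (nat_lit 16400))))
  (.node (.node (.leaf (nat_lit 99))
  (.leaf (nat_lit 462)))
  (.leaf (nat_lit 8200))))
  (.node (.node (.node (.leaf (nat_lit 66))
  (.leaf (nat_lit 12300)))
  (.leaf (nat_lit 231)))
  (.node (.node (.leaf (nat_lit 4100))
  (.leaf (nat_lit 495)))
  (.leaf (nat_lit 330))))
def y5508_N_2 : Tr := .node (.node (.node (.node (.leaf (nat_lit 99425))
  (.leaf (nat_lit 363)))
  (.node (.leaf (nat_lit 5125))
  (.leaf (nat_lit 528))))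
  (.node (.node (.leaf (nat_lit 99))
  (.leaf (nat_lit 13325)))
  (.leaf (nat_lit 264))))
  (.node (.node (.node (.leaf (nat_lit 1025))
  (.leaf (nat_lit 396)))
  (.leaf (nat_lit 231)))
  (.node (.node (.leaf (nat_lit 132))
  (.leaf (nat_lit 495)))
  (.leaf (nat_lit 9225))))
def y5508_N_3 : Tr := .node (.node (.node (.node (.leaf (nat_lit 33))
  (.leaf (nat_lit 11275)))
  (.node (.leaf (nat_lit 198))
  (.leaf (nat_lit 0))))
  (.node (.node (.leaf (nat_lit 3075))
  (.leaf (nat_lit 462)))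
  (.leaf (nat_lit 297))))
  (.node (.node (.node (.leaf (nat_lit 66))
  (.leaf (nat_lit 429)))
  (.leaf (nat_lit 7175)))
  (.node (.node (.leaf (nat_lit 165))
  (.leaf (nat_lit 15375)))
  (.leaf (nat_lit 330))))
def y5508_N : Tr := .node (.node y5508_N_0
  y5508_N_1)
  (.node y5508_N_2
  y5508_N_3)
noncomputable def y5508 : TC :=
  ⟨[.l 0, .l 1, .l 2, .l 3, .l 4, .l 5, .l 6, .l 7, .l 8, .l 9, .l 10, .l 11, .l 12, .l 13, .l 14, .l 15, .l 16],
    (nat_lit 2), (nat_lit 7), (nat_lit 0x107b9ac5a928398a418820), (nat_lit 7), (nat_lit 4), (nat_lit 2), (nat_lit 32), (nat_lit 1), (nat_lit 53),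
    get (nat_lit 10) (nat_lit 0x400c0400c02010030080400c02010030080400c02010030080400c02010030080400c02010030080400c02010030080400c02010030080400c02010030080601006), Tr.get y5508_N, get (nat_lit 20) (nat_lit 0x3ff003ff003ff003ff003ff003ff003ff003ff003ff003ff003ff003ff003ff003ff003ff003ff003ff003ff003ff003ff003ff003ff003ff003ff003ff003ff003ff003ff003ff003ff003ff003ff003ff003ff003ff003ff003ff003ff003ff003ff003ff003ff003ff003ff003ff003ff003ff003ff003ff003ff000020000100000),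
    Tr.get3 y5508_F (nat_lit 14) (nat_lit 6), Tr.get3 y5508_T (nat_lit 2) (nat_lit 8), Tr.get y5508_P⟩

theorem y5508_head : y5508.headOK y5508_rels iv = true := by decide +kernel

theorem y5508_b0 : allFrom (nat_lit 0) (nat_lit 1) y5508.blockOK = true := by decide +kernel

def y5508_Q3 : Tr := .leaf (nat_lit 538722)
theorem y5508_f3_0 : allFrom (nat_lit 0) (nat_lit 4) (y5508.finOK (nat_lit 4) (Tr.get3 y5508_Q3 (nat_lit 5) (nat_lit 7)) (nat_lit 3)) = true := by
  decide +kernel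

def y5508_Q2 : Tr := .leaf (nat_lit 595082)
theorem y5508_f2_0 : allFrom (nat_lit 0) (nat_lit 4) (y5508.finOK (nat_lit 4) (Tr.get3 y5508_Q2 (nat_lit 5) (nat_lit 7)) (nat_lit 2)) = true := by
  decide +kernel

def y5508_Q1 : Tr := .leaf (nat_lit 30408)
theorem y5508_f1_0 : allFrom (nat_lit 0) (nat_lit 4) (y5508.finOK (nat_lit 4) (Tr.get3 y5508_Q1 (nat_lit 4) (nat_lit 7)) (nat_lit 1)) = true := by
  decide +kernel

theorem y5508_blocks : ∀ t < y5508.k, y5508.blockOK t = true :=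
  (of_allFrom_append of_lt_zero y5508_b0)

/-- index 4 max 4 total 4 facts 10 | needed cosets 4 facts 10 steps 16 trivial 0 -/
theorem y5508_index {G : Type*} [Group G] {γ : ℕ → G} (hL : Lab γ iv) (hr : ∀ t ∈ y5508_rels, t.ev γ = 1) {K : Subgroup G}
    (hK : ∀ t ∈ ([.l 1, .l 2] : List W), t.ev γ ∈ K) :
    K.relIndex (genW γ [.l 1, .l 2, .l 3]) ≠ 0 ∧ K.relIndex (genW γ [.l 1, .l 2, .l 3]) ≤ 4 :=
  TC.relIndex_le (D := y5508) (gens := [1, 2, 3]) hL (List.forall_mem_cons.2 ⟨hL.zero_mem K, hK⟩) hr y5508_head y5508_blocks (by decide) (by decide)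
   (List.forall_mem_cons.2 ⟨⟨_, (of_allFrom_append of_lt_zero y5508_f1_0)⟩,
    List.forall_mem_cons.2 ⟨⟨_, (of_allFrom_append of_lt_zero y5508_f2_0)⟩,
    List.forall_mem_cons.2 ⟨⟨_, (of_allFrom_append of_lt_zero y5508_f3_0)⟩,
    fun _ h => absurd h List.not_mem_nil⟩⟩⟩)

def y5509_rels : List W := [.pow (.mul (.l 1) (.l 2)) 3]
def y5509_F : Tr := .leaf (nat_lit 0x14150d0b0c0a1311121009080000)
def y5509_T : Tr := .leaf (nat_lit 181896)
def y5509_P : Tr := .leaf (nat_lit 0xff800ff800ff800ff800ff800ff800ff800ff800ff800ff800ff800ff800ff800ff800ff800ff800ff800ff800ff800ff800ff800ff800ff800ff800ff800ff800ff800ff800ff800ff800ff8a0c0828900200)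
def y5509_N_0 : Tr := .node (.node (.node (.node (.leaf (nat_lit 68224065))
  (.leaf (nat_lit 363)))
  (.node (.leaf (nat_lit 198))
  (.leaf (nat_lit 16400))))
  (.node (.node (.leaf (nat_lit 99))
  (.leaf (nat_lit 462)))
  (.leaf (nat_lit 8200))))
  (.node (.node (.node (.leaf (nat_lit 66))
  (.leaf (nat_lit 12300)))
  (.leaf (nat_lit 231)))
  (.node (.node (.leaf (nat_lit 4100))
  (.leaf (nat_lit 495)))
  (.leaf (nat_lit 330))))
def y5509_N_1 : Tr := .node (.node (.node (.node (.leaf (nat_lit 33))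
  (.leaf (nat_lit 396)))
  (.node (.leaf (nat_lit 6150))
  (.leaf (nat_lit 0))))
  (.node (.node (.leaf (nat_lit 132))
  (.leaf (nat_lit 14350)))
  (.leaf (nat_lit 297))))
  (.node (.node (.node (.leaf (nat_lit 2050))
  (.leaf (nat_lit 429)))
  (.leaf (nat_lit 264)))
  (.node (.node (.leaf (nat_lit 165))
  (.leaf (nat_lit 528)))
  (.leaf (nat_lit 10250))))
def y5509_N_2 : Tr := .node (.node (.node (.node (.leaf (nat_lit 33))
  (.leaf (nat_lit 11275)))
  (.node (.leaf (nat_lit 198))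
  (.leaf (nat_lit 0))))
  (.node (.node (.leaf (nat_lit 3075))
  (.leaf (nat_lit 462)))
  (.leaf (nat_lit 297))))
  (.node (.node (.node (.leaf (nat_lit 66))
  (.leaf (nat_lit 429)))
  (.leaf (nat_lit 7175)))
  (.node (.node (.leaf (nat_lit 165))
  (.leaf (nat_lit 15375)))
  (.leaf (nat_lit 330))))
def y5509_N_3 : Tr := .node (.node (.node (.node (.leaf (nat_lit 1025))
  (.leaf (nat_lit 396)))
  (.leaf (nat_lit 231)))
  (.node (.node (.leaf (nat_lit 132))
  (.leaf (nat_lit 495)))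
  (.leaf (nat_lit 9225))))
  (.node (.node (.node (.leaf (nat_lit 99))
  (.leaf (nat_lit 13325)))
  (.leaf (nat_lit 264)))
  (.node (.node (.leaf (nat_lit 5125))
  (.leaf (nat_lit 528)))
  (.leaf (nat_lit 363))))
def y5509_N : Tr := .node (.node y5509_N_0
  y5509_N_1)
  (.node y5509_N_2
  y5509_N_3)
noncomputable def y5509 : TC :=
  ⟨[.l 0, .l 1, .l 2, .l 3, .l 4, .l 5, .l 6, .l 7, .l 8, .l 9, .l 10, .l 11, .l 12, .l 13, .l 14, .l 15, .l 16],
    (nat_lit 3), (nat_lit 7), (nat_lit 0x107b9ac5a928398a418820), (nat_lit 1), (nat_lit 6), (nat_lit 0), (nat_lit 32), (nat_lit 1), (nat_lit 51),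
    get (nat_lit 10) (nat_lit 0x400c0400c02010030080400c02010030080400c02010030080400c02010030080400c02010030080400c02010030080400c02010030080400c020100300806), Tr.get y5509_N, get (nat_lit 20) (nat_lit 0x3ff003ff003ff003ff003ff003ff003ff003ff003ff003ff003ff003ff003ff003ff003ff003ff003ff003ff003ff003ff003ff003ff003ff003ff003ff003ff003ff003ff003ff003ff003ff003ff003ff003ff003ff003ff003ff003ff003ff003ff003ff003ff003ff003ff003ff003ff003ff003ff003ff003ff00000),
    Tr.get3 y5509_F (nat_lit 16) (nat_lit 5), Tr.get3 y5509_T (nat_lit 3) (nat_lit 8), Tr.get y5509_P⟩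

theorem y5509_head : y5509.headOK y5509_rels iv = true := by decide +kernel

theorem y5509_b0 : allFrom (nat_lit 0) (nat_lit 1) y5509.blockOK = true := by decide +kernel

def y5509_Q2 : Tr := .leaf (nat_lit 13464932)
theorem y5509_f2_0 : allFrom (nat_lit 0) (nat_lit 6) (y5509.finOK (nat_lit 6) (Tr.get3 y5509_Q2 (nat_lit 4) (nat_lit 7)) (nat_lit 2)) = true := by
  decide +kernel

def y5509_Q1 : Tr := .leaf (nat_lit 12167218)
theorem y5509_f1_0 : allFrom (nat_lit 0) (nat_lit 6) (y5509.finOK (nat_lit 6) (Tr.get3 y5509_Q1 (nat_lit 4) (nat_lit 7)) (nat_lit 1)) = true := by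
  decide +kernel

theorem y5509_blocks : ∀ t < y5509.k, y5509.blockOK t = true :=
  (of_allFrom_append of_lt_zero y5509_b0)

/-- index 6 max 6 total 6 facts 7 | needed cosets 6 facts 7 steps 5 trivial 0 -/
theorem y5509_index {G : Type*} [Group G] {γ : ℕ → G} (hL : Lab γ iv) (hr : ∀ t ∈ y5509_rels, t.ev γ = 1) {K : Subgroup G}
    (hK : ∀ t ∈ ([] : List W), t.ev γ ∈ K) :
    K.relIndex (genW γ [.l 1, .l 2]) ≠ 0 ∧ K.relIndex (genW γ [.l 1, .l 2]) ≤ 6 :=
  TC.relIndex_le (D := y5509) (gens := [1, 2]) hL (List.forall_mem_cons.2 ⟨hL.zero_mem K, hK⟩) hr y5509_head y5509_blocks (by decide) (by decide)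
   (List.forall_mem_cons.2 ⟨⟨_, (of_allFrom_append of_lt_zero y5509_f1_0)⟩,
    List.forall_mem_cons.2 ⟨⟨_, (of_allFrom_append of_lt_zero y5509_f2_0)⟩,
    fun _ h => absurd h List.not_mem_nil⟩⟩)

theorem card_y550 {G : Type*} [Group G] {γ : ℕ → G} (hL : Lab γ iv) (hr : ∀ t ∈ r550, t.ev γ = 1) :
    Nat.card (genW γ [.l 1, .l 2, .l 3, .l 4, .l 5, .l 6, .l 7, .l 8, .l 9, .l 10, .l 11]) ≠ 0 ∧ Nat.card (genW γ [.l 1, .l 2, .l 3, .l 4, .l 5, .l 6, .l 7, .l 8, .l 9, .l 10, .l 11]) ≤ 12 * (11 * (10 * (9 * (8 * (7 * (6 * (5 * (4 * (6 * (1)))))))))) :=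
  (card_le_of_relIndex (K := genW γ [.l 1, .l 2, .l 3, .l 4, .l 5, .l 6, .l 7, .l 8, .l 9, .l 10]) (genW_le_of_subOK hL [] hr (by decide +kernel))
    (y5500_index hL (rels_of_isIn hr (by decide +kernel)) fun _ => mem_genW γ)
    (card_le_of_relIndex (K := genW γ [.l 1, .l 2, .l 3, .l 4, .l 5, .l 7, .l 8, .l 9, .l 10]) (genW_le_of_subOK hL [] hr (by decide +kernel))
    (y5501_index hL (rels_of_isIn hr (by decide +kernel)) fun _ => mem_genW γ)
    (card_le_of_relIndex (K := genW γ [.l 1, .l 2, .l 3, .l 4, .l 5, .l 7, .l 8, .l 9]) (genW_le_of_subOK hL [] hr (by decide +kernel))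
    (y5502_index hL (rels_of_isIn hr (by decide +kernel)) fun _ => mem_genW γ)
    (card_le_of_relIndex (K := genW γ [.l 1, .l 2, .l 3, .l 4, .l 7, .l 8, .l 9]) (genW_le_of_subOK hL [] hr (by decide +kernel))
    (y5503_index hL (rels_of_isIn hr (by decide +kernel)) fun _ => mem_genW γ)
    (card_le_of_relIndex (K := genW γ [.l 1, .l 2, .l 3, .l 4, .l 7, .l 8]) (genW_le_of_subOK hL [] hr (by decide +kernel))
    (y5504_index hL (rels_of_isIn hr (by decide +kernel)) fun _ => mem_genW γ)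
    (card_le_of_relIndex (K := genW γ [.l 1, .l 2, .l 3, .l 7, .l 8]) (genW_le_of_subOK hL [] hr (by decide +kernel))
    (y5505_index hL (rels_of_isIn hr (by decide +kernel)) fun _ => mem_genW γ)
    (card_le_of_relIndex (K := genW γ [.l 1, .l 2, .l 3, .l 7]) (genW_le_of_subOK hL [] hr (by decide +kernel))
    (y5506_index hL (rels_of_isIn hr (by decide +kernel)) fun _ => mem_genW γ)
    (card_le_of_relIndex (K := genW γ [.l 1, .l 2, .l 3]) (genW_le_of_subOK hL [] hr (by decide +kernel))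
    (y5507_index hL (rels_of_isIn hr (by decide +kernel)) fun _ => mem_genW γ)
    (card_le_of_relIndex (K := genW γ [.l 1, .l 2]) (genW_le_of_subOK hL [] hr (by decide +kernel))
    (y5508_index hL (rels_of_isIn hr (by decide +kernel)) fun _ => mem_genW γ)
    (card_le_of_relIndex bot_le (y5509_index hL (rels_of_isIn hr (by decide +kernel)) (by simp)) card_bot_le))))))))))
def r551 : List W := [.pow (.mul (.l 1) (.l 2)) 3, .pow (.mul (.l 1) (.l 3)) 2, .pow (.mul (.l 1) (.l 4)) 2, .pow (.mul (.l 1) (.l 5)) 2, .pow (.mul (.l 1) (.l 6)) 2, .pow (.mul (.l 1) (.l 7)) 3, .pow (.mul (.l 1) (.l 8)) 2, .pow (.mul (.l 1) (.l 9)) 2, .pow (.mul (.l 1) (.l 10)) 2, .pow (.mul (.l 1) (.l 11)) 2, .pow (.mul (.l 1) (.l 12)) 3, .pow (.mul (.l 2) (.l 3)) 3, .pow (.mul (.l 2) (.l 4)) 2, .pow (.mul (.l 2) (.l 5)) 2, .pow (.mul (.l 2) (.l 6)) 2, .pow (.mul (.l 2) (.l 7)) 2, .pow (.mul (.l 2) (.l 8)) 2, .pow (.mul (.l 2) (.l 9)) 2, .pow (.mul (.l 2) (.l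 10)) 2, .pow (.mul (.l 2) (.l 11)) 2, .pow (.mul (.l 2) (.l 12)) 2, .pow (.mul (.l 3) (.l 4)) 3, .pow (.mul (.l 3) (.l 5)) 2, .pow (.mul (.l 3) (.l 6)) 2, .pow (.mul (.l 3) (.l 7)) 2, .pow (.mul (.l 3) (.l 8)) 2, .pow (.mul (.l 3) (.l 9)) 2, .pow (.mul (.l 3) (.l 10)) 2, .pow (.mul (.l 3) (.l 11)) 2, .pow (.mul (.l 3) (.l 12)) 2, .pow (.mul (.l 4) (.l 5)) 3, .pow (.mul (.l 4) (.l 6)) 2, .pow (.mul (.l 4) (.l 7)) 2, .pow (.mul (.l 4) (.l 8)) 2, .pow (.mul (.l 4) (.l 9)) 2, .pow (.mul (.l 4) (.l 10)) 2, .pow (.mul (.l 4) (.l 11)) 2, .pow (.mul (.l 4) (.l 12)) 2, .pow (.mul (.l 5) (.l 6)) 3, .pow (.mul (.l 5) (.l 7)) 2, .pow (.mul (.l 5) (.l 8)) 2, .pow (.mul (.l 5) (.l 9)) 2, .pow (.mul (.l 5) (.l 10)) 2, .pow (.mul (.l 5) (.l 11)) 2, .pow (.mul (.l 5) (.l 12)) 2, .pow (.mul (.l 6) (.l 7)) 2, .pow (.mul (.l 6) (.l 8)) 2, .pow (.mul (.l 6) (.l 9)) 2, .pow (.mul (.l 6) (.l 10)) 2, .pow (.mul (.l 6) (.l 11)) 2, .pow (.mul (.l 6) (.l 12))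 2, .pow (.mul (.l 7) (.l 8)) 3, .pow (.mul (.l 7) (.l 9)) 2, .pow (.mul (.l 7) (.l 10)) 2, .pow (.mul (.l 7) (.l 11)) 2, .pow (.mul (.l 7) (.l 12)) 2, .pow (.mul (.l 8) (.l 9)) 3, .pow (.mul (.l 8) (.l 10)) 2, .pow (.mul (.l 8) (.l 11)) 2, .pow (.mul (.l 8) (.l 12)) 2, .pow (.mul (.l 9) (.l 10)) 3, .pow (.mul (.l 9) (.l 11)) 2, .pow (.mul (.l 9) (.l 12)) 2, .pow (.mul (.l 10) (.l 11)) 3, .pow (.mul (.l 10) (.l 12)) 2, .pow (.mul (.l 11) (.l 12)) 2, .mul (.l 6) (.inv (.pow (.mul (.mul (.mul (.mul (.mul (.mul (.l 1) (.l 2)) (.l 7)) (.l 12)) (.l 3)) (.l 8)) (.l 4)) 9)), .mul (.l 11) (.inv (.pow (.mul (.mul (.mul (.mul (.mul (.mul (.l 1) (.l 7)) (.l 2)) (.l 12)) (.l 8)) (.l 3)) (.l 9)) 9))]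
def lpo_F : Tr := .leaf (nat_lit 0x2762766766765f65f65765764f64f64764763f63f61f61f61761760f60f61f51f56756755f55f55755754f54f54754753f53f53743751751750f50f52f42f41731736736735f35f35735734f34f34734733f33f33723732f32f30f30f32f02f20f10f16716715f15f15715714f14f14714713f13f136f3712f12f12712712702702e52ef66e66e3ee3ee5ee5ee56e56e4ee4ee46e46e36436e2ee2ee26e26e1ee1ee66466465865805806604d05a04006704e05b04106804f05c04206905005d04406a05206005f06c4eb4eb56d56d66266d46d46d1ed1ed16016c56156b0df0eb46046a3dd3e90dc0e865b66725a2662592652d82e44634635e35e35635634e34e33573632e32e32632631e31e31631635625621621625d45e11e11e115215f55355e1d91d924d2582cc2d74d64d65d65d655655634b3562d62d62562561d61d61561560d60d64554556556551d51d51481555545541541540c70d45c65d34d34d31d31d35455511441514c44d044244f3c13ce1c91cd24024c2bf2cb54a54a5ca5ca3ca3ca33e34a2ca2ca24a24a1ca1ca14a14a0ca0ca1491493c83c80c80c83c73c76476471c71c713b1471461465465465ba5c54c54c51c51c55395434b84c24374411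bc1c023623f2b52be5bd5bd43d43d3bd3bd33433d2bd2bd23d23d1bd1bd13d13d0bd0bd13213c3bb3bb63b63b1b11bb0bb0bb63a63a53a53a4ba4ba1ba1ba12f13a1b91b95ae5b94b94b952d5384ac4b71b01b622b2352aa2b44b34b34334333b33b33293332b32b32332331b31b31331330b30b30b20b21271300af0af62f62f1a61af1ae1ae62e62e52e52e4ae4ae42e42e5a35ad4ad4ad1a51ad52252c1a41ab22122a2a02a92a82a85285284a84a84284283a83a82282281a81a81281280a80a809e0a70a60a66266264a64a612612612512511d1246236235235234a34a342342319c1a35995a24a24a219b1a219a1a121822021f21f51f51f49f49f41f41f39f39f19f19f11f11f09f09f39e39e09609d61c61c11c11c49c49c41c41c11511b11411a51951949949941941939939919319911911949849819219819719751751749749741741739739731731711711709709739039609509508f09449349341341339339310e11310d11211111151151149149141141139139131131129129109109141041038b38f08e08e48e48e40e40e38e38e18e18e08a08d08c08c50c50c48c48c40c40c38c38c30c30c28c28c20c20c40840b60a60a38738a38938950950948948940940930930928928920920918918948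84884054074064066066065065064864863063062862862062061861861061064834854844846046045045043043042842842042041841841041040840845035035025026026023823823023022822822022021821821021020820826016014014013813813013012812812012011811811011010810816006004804804004003803803003002802802002001801801001000800805805802f62f52752732742721f31f11f21ef17116e1f01e516f1640ee0e34ed4e14ec4df46b45e4ea4dd46945c3e83db0e70da6666581651580e40d73e33d63e23d44614534e04d245f4510de0d145d4503dc3cf0db0ce65a64d15914d0d80cc3d73cb45644a4d54c74544460d30c54524443d13c33d03c20cf0c164e6400cd0c03cc3bf44b43e4ca4bd0c90bc4c84bb44743a0c60ba3c53b93c43b81431380c20b76416363c03b643f4354be4b453d5333bc3b043b42f3ba3ae13912d0b80ac63762b43642b4b54aa5345295b35a83b23a74314264304243af3a312e1230ad0a262c6214ab4a152a5205a959f32831f42741d3a639c0a509b4a449a0a30996226185215185a059729f29741e41649d49409c09361b61251a51261961159859121721149648f61560d51450d61360c59258c19118c49048b50f50a60e60958d58910c10950b50758a586089086508505587584386384585582404402583581482481501500000000)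
def lpo_T : Tr := .leaf (nat_lit 0x1dbaf4e7cb8f0dfbb6ecd7ab4e8cf9b2e4c78b0e0bf7aedcb76acd8af5aad4a74a8d09f3a6cc972a4c88f1a2c4870a0c07ef9ebc76e9cb86ed9ab466c98b05eb96ac56a94a84e992a446890a03e78e9c3668c982e58a9426488901e3868c16284880e182840608080)
def lpo_P : Tr := .node (.node (.node (.node (.leaf (nat_lit 0x3131034000800c4bc0d000180312d0340003c0a010070003d0200444c05024008e008494090023b02127024008e408484090002e0211f024000a00847409000210211b02400064084640900010021170240001806008ef00c070003f0100240403014008f004454050023e01111014000d00443c050002f0110d014000a40442c050002201109014000680441c0500011011050140001c0240c0300240008ff00c000e4023f40300035008fb00c000c0023e4030002a008f700c0008c023d4030001b008f300c00048023c40300008))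
  (.leaf (nat_lit 0x321d049e8024534f3fb1a0096b23cf4a0802573573bb220097725ce4a48025acab37bf600920d8c9b34c9e0001f2936f3236b280003ccc704cc0001032ecb0dac06d5a969f9c4768de058244c74dd573df47e44670dbf0c993089755e5710601d6057d60d855fd9c0997308d9562d9166433715c168c391360381c639b891a9ea9b6adfb86dd2aad43170300843368c2b44c336c000e0dabfcdb0001a362fd30400044d6becc300239358bc2fc00018d42eac9294c100038348b8b1ca12ec000ccd02dac527cb900005338b42689d2dc00828ccbdcb50002532af72cc00830c8bd4b100203318acae4ad31c008ccc6bc4c70023631aef31c008d4c6bccc70023431aed2bc000b4c6bacc70002731ae931c00080c6b9cc70001831ae531c0003cc4b64c500235)))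
  (.leaf (nat_lit 0x19a0f19c0004c6683467000091920b7660a19400014607fc4f000101784670c4717c000145e7f45f00237179f5134000605c7d5d37d05d0020b171fd174008505c7ec5d00212171f9174008445c7dc5d00210169f311c008245a7c45b00207169ef12c00804581084500040159ed12400068547ac43000231483e104000ac500f9af0fc5100026141e7144008c050794510022f141e3144008b850784510022d141e91440007c5077c5100017141dd144000385076c5100004139d70f4000184c0e19f0e44d00005131d5134008dc4c7444d00234)))
  (.node (.node (.leaf (nat_lit 0xc9910cc000dc32088270001d0c9990cc0005030654310003d0c022094000702e0896b08c2f000150b9970bc0088c2e6542f002220b9930bc008842e6442f002200b98f0bc0087c2e6642f0000c0b98b0bc000082c61c21000340a97b59d7a0ac00028285ec1f000080997509c000f8265cc270003b0997109c000dc260601d000140901806c0004c2206155064230000b0897708c0086c225d4230021a0897308c00864225c423002180896f08c0085c225b423002160897908c00004205a5535a021000380796505c000d41c0494d04c1d0000a))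
  (.leaf (nat_lit 0x1ff001ff001ff001ff3b0eae04eb3b400078ece94ed0022c3b3a33b4008acece84ed0022a3b39f3b4008a4ece74ed002283b39b3b40089cece9ced000163b3973b400034ece54ed000033a8e6da4e73ac00054eae3ceb002253ab8d3ac00890eae2ceb002233ab893ac00888eae1ceb002213ab853ac00880eae0ce90021f3ab913ac00030eadfceb000023a37dd9f7c3a400878e638b5138ce70000b39b7939c00874e6ddce70021c39b7539c0086ce6dcce70021a39b7139c00864e6dbce700218)))
  (.leaf (nat_lit 0x26a8d24c0080498a2c810002025a891fc000a0941ea511ec950023c25287254008f494a0c9500034252811f4000bc949fc95000292527d25400088949ec950001a2527925400044949dc950000724a758fe7424c00800909cc91000342426d2440001c8e1d22d1d48f0003323a6b23c008ec8e9948f0001923a631dc000408c98e3b9888d0020023269234008208a97c750023622a5d22c008d08a9848b0001821a5b1cc008488496471002072086c1bc000ec8095c79000181fa551b4000847c94c6b000291e86686c671ec008fc7a93c7b00039))))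
  (.node (.node (.node (.leaf (nat_lit 0x715f074000f81c5741d0003b07163074000dc1c5541d0001d0681205400024180493f04c190000006161064008481857c19002110615d064008401858c190020f0615b0640083818564190020d06157064008301654411000390514d05400904140300f000360480c4ac0d04c008141252c13002080494904c0081c1253c13002060494704c008101251413002030494304c008081250413002010413d4a53c044000f00e0200b0003a0300848c09034008cc0c4e40d0023703137034008d40c4ec0d0023403135034000b40c4cc0d00027))
  (.leaf (nat_lit 0xe6db4e50021739b6b39c00858e6dece7000013936538400858e237307374e30000038b6338c00850e2d7ce30021338b5d38c00848e2d6ce30021138b5938c00840e2d84e30020f38b5737c00838e2d54e30020d38b5338c00830e0c6ef9c68e10021537b1932c0083757d3b5600232370c6b8cc737400814dcc54dd002093731337400820dcc44dd002073731737400818dcc3cc9002043730d3740080cdcc2cdd00202373093740080719d33180022cd28cc00066c7749bda00938cfd1c9b80245c7f4527200998d1d0ec480257)))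
  (.leaf (nat_lit 0x1ea4d1ec000d47a92c69000301ea491ec000a87a91c7b000231ea451ec0006c7a90c7b000121ea411ec00020788f4650000f1d85e7dc5f1dc000cc768e4770023b1da3718c00064768ec77000061d2331d4008dc748c475002351d22f1d4008d0748d475000181d05c17c0003c7289e01898730020b1ca2b1740084c728a473002111c22516c008206e158590003e1b223184000646a88457000221a21f154000a866864670003d19a1719c000e86685467000361985014c000c466874670002b19a1319c0009066844670001c)))
  (.node (.leaf (nat_lit 0x131d31340003c4a735a77304b00200121cb0ec00044460c98b0cc470020a119c911c008204671c4700207119c511c00818467043900201110300cc00104446f4450003e111bb0dc00074426ec350001b1002e0c4000903e0b98d0bc3f0001e0f9b70fc008a83e6d43f002290f9b30fc008a03e6c43f002270f9b90fc000583e6b43f0000d0f9ab0fc0000c3c6a5896a03d000330e9a50b40001c380997909c390020a0e19d6159c0e4008003868c39002070e1a10e4008183666c2b000140d19b0a4000483265c33000400c9950cc000f83264c330003b))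
  (.leaf (nat_lit 0x312d73140003cc2b4ca90023a30acf30c00064beb2ca5000102f2cd29c00820b2b0eabb08b30020b2c2c126c00808aeafc99000272b094a14952b4008e0acaecad0023a2b2bd2b4008e4acadc970002e2b2b52b4000a0acaccad000212b2b12b400064acabcad000102b2ad2b400018aa23a6723cab000382aaa32ac008f8aaa84ab0001a2aa9f24400044a8a6ca9002392a29d2a400040a82308f0000629a9923400824a6a5ca70020729a9529c00804a2a4c8b00235288862240003ca0a44890023427a8f214008189c2008300037))))
def lpo_N_0 : Tr := .node (.node (.node (.node (.leaf (nat_lit 68224065))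
  (.leaf (nat_lit 403850)))
  (.node (.leaf (nat_lit 233700))
  (.leaf (nat_lit 330))))
  (.node (.node (.leaf (nat_lit 264450))
  (.leaf (nat_lit 165)))
  (.node (.leaf (nat_lit 334150))
  (.leaf (nat_lit 15375)))))
  (.node (.node (.node (.leaf (nat_lit 329025))
  (.leaf (nat_lit 66)))
  (.node (.leaf (nat_lit 267525))
  (.leaf (nat_lit 429))))
  (.node (.node (.leaf (nat_lit 232675))
  (.leaf (nat_lit 7175)))
  (.leaf (nat_lit 310681896))))
def lpo_N_1 : Tr := .node (.node (.node (.node (.leaf (nat_lit 197825))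
  (.leaf (nat_lit 33)))
  (.node (.leaf (nat_lit 364900))
  (.leaf (nat_lit 11275))))
  (.node (.node (.leaf (nat_lit 395650))
  (.leaf (nat_lit 198)))
  (.node (.leaf (nat_lit 302375))
  (.leaf (nat_lit 0)))))
  (.node (.node (.node (.leaf (nat_lit 133250))
  (.leaf (nat_lit 3075)))
  (.node (.leaf (nat_lit 398725))
  (.leaf (nat_lit 462))))
  (.node (.node (.leaf (nat_lit 363875))
  (.leaf (nat_lit 297)))
  (.leaf (nat_lit 345318729))))
def lpo_N_2 : Tr := .node (.node (.node (.node (.leaf (nat_lit 132225))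
  (.leaf (nat_lit 0x88ec1a08111d83410223b0682044760d04088ec1a08111d83410223b0682044760d04088ec1a086)))
  (.node (.leaf (nat_lit 299300))
  (.leaf (nat_lit 363))))
  (.node (.node (.leaf (nat_lit 330050))
  (.leaf (nat_lit 5125)))
  (.node (.leaf (nat_lit 399750))
  (.leaf (nat_lit 528)))))
  (.node (.node (.node (.leaf (nat_lit 404096385))
  (.leaf (nat_lit 99)))
  (.node (.leaf (nat_lit 333125))
  (.leaf (nat_lit 13325))))
  (.node (.node (.leaf (nat_lit 298275))
  (.leaf (nat_lit 264)))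
  (.leaf (nat_lit 369000))))
def lpo_N_3 : Tr := .node (.node (.node (.node (.leaf (nat_lit 263425))
  (.leaf (nat_lit 1025)))
  (.node (.leaf (nat_lit 206771397))
  (.leaf (nat_lit 396))))
  (.node (.node (.leaf (nat_lit 167075))
  (.leaf (nat_lit 231)))
  (.leaf (nat_lit 367975))))
  (.node (.node (.node (.leaf (nat_lit 198850))
  (.leaf (nat_lit 132)))
  (.node (.leaf (nat_lit 268550))
  (.leaf (nat_lit 495))))
  (.node (.node (.leaf (nat_lit 172134564))
  (.leaf (nat_lit 9225)))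
  (.leaf (nat_lit 402825))))
def lpo_N_4 : Tr := .node (.node (.node (.node (.leaf (nat_lit 99425))
  (.leaf (nat_lit 404875)))
  (.node (.leaf (nat_lit 266500))
  (.leaf (nat_lit 10250))))
  (.node (.node (.leaf (nat_lit 297250))
  (.leaf (nat_lit 165)))
  (.node (.leaf (nat_lit 366950))
  (.leaf (nat_lit 528)))))
  (.node (.node (.node (.leaf (nat_lit 361825))
  (.leaf (nat_lit 2050)))
  (.node (.leaf (nat_lit 300325))
  (.leaf (nat_lit 429))))
  (.node (.node (.leaf (nat_lit 265475))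
  (.leaf (nat_lit 264)))
  (.leaf (nat_lit 336200))))
def lpo_N_5 : Tr := .node (.node (.node (.node (.leaf (nat_lit 236160225))
  (.leaf (nat_lit 33)))
  (.node (.leaf (nat_lit 397700))
  (.leaf (nat_lit 396))))
  (.node (.node (.leaf (nat_lit 137497731))
  (.leaf (nat_lit 6150)))
  (.node (.leaf (nat_lit 335175))
  (.leaf (nat_lit 0)))))
  (.node (.node (.node (.leaf (nat_lit 166050))
  (.leaf (nat_lit 132)))
  (.node (.leaf (nat_lit 235750))
  (.leaf (nat_lit 14350))))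
  (.node (.node (.leaf (nat_lit 396675))
  (.leaf (nat_lit 297)))
  (.leaf (nat_lit 370025))))
def lpo_N_6 : Tr := .node (.node (.node (.node (.leaf (nat_lit 165025))
  (.leaf (nat_lit 0x9c4c40d21389881a42713103484e26206909c4c40d21389881a42713103484e26206909c4c40d2b)))
  (.node (.leaf (nat_lit 332100))
  (.leaf (nat_lit 363))))
  (.node (.node (.leaf (nat_lit 362850))
  (.leaf (nat_lit 198)))
  (.node (.leaf (nat_lit 276045063))
  (.leaf (nat_lit 16400)))))
  (.node (.node (.node (.leaf (nat_lit 102860898))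
  (.leaf (nat_lit 99)))
  (.node (.leaf (nat_lit 365925))
  (.leaf (nat_lit 462))))
  (.node (.node (.leaf (nat_lit 331075))
  (.leaf (nat_lit 8200)))
  (.leaf (nat_lit 401800))))
def lpo_N_7 : Tr := .node (.node (.node (.node (.leaf (nat_lit 296225))
  (.leaf (nat_lit 66)))
  (.node (.leaf (nat_lit 234725))
  (.leaf (nat_lit 12300))))
  (.node (.node (.leaf (nat_lit 199875))
  (.leaf (nat_lit 231)))
  (.leaf (nat_lit 400775))))
  (.node (.node (.node (.leaf (nat_lit 231650))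
  (.leaf (nat_lit 4100)))
  (.node (.leaf (nat_lit 301350))
  (.leaf (nat_lit 495))))
  (.node (.node (.leaf (nat_lit 200900))
  (.leaf (nat_lit 330)))
  (.leaf (nat_lit 379955562))))
def lpo_N : Tr := .node (.node (.node lpo_N_0
  lpo_N_1)
  (.node lpo_N_2
  lpo_N_3))
  (.node (.node lpo_N_4
  lpo_N_5)
  (.node lpo_N_6
  lpo_N_7))
noncomputable def lpo : TC :=
  ⟨[.l 0, .l 1, .l 2, .l 3, .l 4, .l 5, .l 6, .l 7, .l 8, .l 9, .l 10, .l 11, .l 12, .l 13, .l 14, .l 15, .l 16],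
    (nat_lit 7), (nat_lit 10), (nat_lit 0x107b9ac5a928398a418820), (nat_lit 7167), (nat_lit 119), (nat_lit 11), (nat_lit 32), (nat_lit 11), (nat_lit 118),
    get (nat_lit 10) (nat_lit 0x1003010030080400c02010030080400c02010030080400c02010030080400c02010030080400c02010030080400c02010030080400c02010030080400c0210040010040180401006010040100601004010040180401004010040100401004010040100601004010040100401006010040100401004010040180401004010040100401004018060100401004018040100401006), Tr.get lpo_N, get (nat_lit 20) (nat_lit 0x3ff003ff003ff003ff003ff003ff003ff003ff003ff003ff003ff003ff003ff003ff003ff003ff003ff003ff003ff003ff003ff003ff003ff003ff003ff003ff003ff003ff003ff003ff003ff003ff003ff003ff003ff003ff003ff003ff003ff003ff003ff003ff003ff003ff003ff003ff003ff003ff003ff003ff000430004200041000400003f0003e0003d0003c0003b0003a000390003800037000360003500034000330003200031000300002f0002e0002d0002c0002b0002a000290002800027000260002500024000230002200021000200001f0001e0001d0001c0001b0001a000190001800017000160001500014000130001200011000100000f0000e0000d0000c0000b0000a00009000080000700006000050000400003000020000100000),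
    Tr.get3 lpo_F (nat_lit 24) (nat_lit 5), Tr.get3 lpo_T (nat_lit 7) (nat_lit 7), Tr.get lpo_P⟩

theorem lpo_head : lpo.headOK r551 iv = true := by decide +kernel

theorem lpo_b0 : allFrom (nat_lit 0) (nat_lit 11) lpo.blockOK = true := by decide +kernel

theorem lpo_blocks : ∀ t < lpo.k, lpo.blockOK t = true :=
  (of_allFrom_append of_lt_zero lpo_b0)

theorem lpo_mem0 {G : Type*} [Group G] {γ : ℕ → G} (hL : Lab γ iv) (hr : ∀ t ∈ r551, t.ev γ = 1) {K : Subgroup G}
    (hK : ∀ t ∈ ([.l 1, .l 2, .l 3, .l 4, .l 5, .l 6, .l 7, .l 8, .l 9, .l 11, .l 12] : List W), t.ev γ ∈ K) :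
    W.ev γ (.mul (.mul (.mul (.mul (.mul (.mul (.mul (.mul (.mul (.mul (.mul (.mul (.mul (.mul (.mul (.mul (.mul (.mul (.mul (.mul (.mul (.l 5) (.l 4)) (.l 3)) (.l 2)) (.l 1)) (.l 7)) (.l 8)) (.l 9)) (.l 10)) (.l 11)) (.l 10)) (.l 9)) (.l 8)) (.l 7)) (.l 1)) (.l 2)) (.l 3)) (.l 4)) (.l 5)) (.mul (.mul (.inv (.mul (.mul (.mul (.mul (.mul (.mul (.mul (.mul (.mul (.mul (.l 6) (.l 5)) (.l 4)) (.l 3)) (.l 2)) (.l 1)) (.l 7)) (.l 8)) (.l 9)) (.l 10)) (.l 11))) (.mul (.mul (.mul (.mul (.mul (.mul (.mul (.mul (.mul (.mul (.mul (.mul (.mul (.mul (.mul (.mul (.mul (.mul (.l 5) (.l 4)) (.l 3)) (.l 2)) (.l 1)) (.l 7)) (.l 8)) (.l 9)) (.l 10)) (.l 11)) (.l 10)) (.l 9)) (.l 8)) (.l 7)) (.l 1)) (.l 2)) (.l 3)) (.l 4)) (.l 5))) (.mul (.mul (.mul (.mul (.mul (.mul (.mul (.mul (.mul (.mul (.l 6) (.l 5)) (.l 4)) (.l 3)) (.l 2)) (.l 1)) (.l 7)) (.l 8)) (.l 9)) (.l 10)) (.l 11)))) (.l 12)) (.inv (.mul (.mul (.mul (.mul (.mul (.mul (.mul (.mul (.mul (.mul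 (.mul (.mul (.mul (.mul (.mul (.mul (.mul (.mul (.mul (.l 5) (.l 4)) (.l 3)) (.l 2)) (.l 1)) (.l 7)) (.l 8)) (.l 9)) (.l 10)) (.l 11)) (.l 10)) (.l 9)) (.l 8)) (.l 7)) (.l 1)) (.l 2)) (.l 3)) (.l 4)) (.l 5)) (.mul (.mul (.inv (.mul (.mul (.mul (.mul (.mul (.mul (.mul (.mul (.mul (.mul (.l 6) (.l 5)) (.l 4)) (.l 3)) (.l 2)) (.l 1)) (.l 7)) (.l 8)) (.l 9)) (.l 10)) (.l 11))) (.mul (.mul (.mul (.mul (.mul (.mul (.mul (.mul (.mul (.mul (.mul (.mul (.mul (.mul (.mul (.mul (.mul (.mul (.l 5) (.l 4)) (.l 3)) (.l 2)) (.l 1)) (.l 7)) (.l 8)) (.l 9)) (.l 10)) (.l 11)) (.l 10)) (.l 9)) (.l 8)) (.l 7)) (.l 1)) (.l 2)) (.l 3)) (.l 4)) (.l 5))) (.mul (.mul (.mul (.mul (.mul (.mul (.mul (.mul (.mul (.mul (.l 6) (.l 5)) (.l 4)) (.l 3)) (.l 2)) (.l 1)) (.l 7)) (.l 8)) (.l 9)) (.l 10)) (.l 11)))))) ∈ K :=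
  TC.mem (D := lpo) hL (List.forall_mem_cons.2 ⟨hL.zero_mem K, hK⟩) hr lpo_head lpo_blocks
    (n := (nat_lit 121)) (w := (nat_lit 0x520c413a12a5a928384432156a4a0e110c8531483104e84a96a4a0e110c8531483104e84a96c5a92838443214c520c413a12a5a92838443214c520c413a12a59483104e84a96a4a0e110c85)) (st := (nat_lit 0xf83d8f43c8f03f0fe4000301d284f1505917a669ba7aa1e149e6791e2781da771de7a03e6b83f7a1de771da781e2791e614c691f4972bcc937ce53a792e60edeebaceaba8ebbb0ecbb4edbb8edbb4ecbb0ebba8eabacee8ece67923a0e4378c82b8961f068149e6791e2781da771de7a03e6b83f7a1de771da781e2791e614e1f7adbb66d7b595514f52801802400fe3f0f03c8f43d8f8)) (by decide +kernel) (by decide +kernel)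

def lpo_loops : List W := [.mul (.mul (.mul (.mul (.mul (.mul (.mul (.mul (.mul (.mul (.mul (.mul (.mul (.mul (.mul (.mul (.mul (.mul (.mul (.mul (.mul (.l 5) (.l 4)) (.l 3)) (.l 2)) (.l 1)) (.l 7)) (.l 8)) (.l 9)) (.l 10)) (.l 11)) (.l 10)) (.l 9)) (.l 8)) (.l 7)) (.l 1)) (.l 2)) (.l 3)) (.l 4)) (.l 5)) (.mul (.mul (.inv (.mul (.mul (.mul (.mul (.mul (.mul (.mul (.mul (.mul (.mul (.l 6) (.l 5)) (.l 4)) (.l 3)) (.l 2)) (.l 1)) (.l 7)) (.l 8)) (.l 9)) (.l 10)) (.l 11))) (.mul (.mul (.mul (.mul (.mul (.mul (.mul (.mul (.mul (.mul (.mul (.mul (.mul (.mul (.mul (.mul (.mul (.mul (.l 5) (.l 4)) (.l 3)) (.l 2)) (.l 1)) (.l 7)) (.l 8)) (.l 9)) (.l 10)) (.l 11)) (.l 10)) (.l 9)) (.l 8)) (.l 7)) (.l 1)) (.l 2)) (.l 3)) (.l 4)) (.l 5))) (.mul (.mul (.mul (.mul (.mul (.mul (.mul (.mul (.mul (.mul (.l 6) (.l 5)) (.l 4)) (.l 3)) (.l 2)) (.l 1)) (.l 7)) (.l 8)) (.l 9)) (.l 10)) (.l 11)))) (.l 12)) (.inv (.mul (.mul (.mul (.mul (.mul (.mul (.mul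 (.mul (.mul (.mul (.mul (.mul (.mul (.mul (.mul (.mul (.mul (.mul (.mul (.l 5) (.l 4)) (.l 3)) (.l 2)) (.l 1)) (.l 7)) (.l 8)) (.l 9)) (.l 10)) (.l 11)) (.l 10)) (.l 9)) (.l 8)) (.l 7)) (.l 1)) (.l 2)) (.l 3)) (.l 4)) (.l 5)) (.mul (.mul (.inv (.mul (.mul (.mul (.mul (.mul (.mul (.mul (.mul (.mul (.mul (.l 6) (.l 5)) (.l 4)) (.l 3)) (.l 2)) (.l 1)) (.l 7)) (.l 8)) (.l 9)) (.l 10)) (.l 11))) (.mul (.mul (.mul (.mul (.mul (.mul (.mul (.mul (.mul (.mul (.mul (.mul (.mul (.mul (.mul (.mul (.mul (.mul (.l 5) (.l 4)) (.l 3)) (.l 2)) (.l 1)) (.l 7)) (.l 8)) (.l 9)) (.l 10)) (.l 11)) (.l 10)) (.l 9)) (.l 8)) (.l 7)) (.l 1)) (.l 2)) (.l 3)) (.l 4)) (.l 5))) (.mul (.mul (.mul (.mul (.mul (.mul (.mul (.mul (.mul (.mul (.l 6) (.l 5)) (.l 4)) (.l 3)) (.l 2)) (.l 1)) (.l 7)) (.l 8)) (.l 9)) (.l 10)) (.l 11)))))]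

theorem lpo_mems {G : Type*} [Group G] {γ : ℕ → G} (hL : Lab γ iv) (hr : ∀ t ∈ r551, t.ev γ = 1) {K : Subgroup G}
    (hK : ∀ t ∈ ([.l 1, .l 2, .l 3, .l 4, .l 5, .l 6, .l 7, .l 8, .l 9, .l 11, .l 12] : List W), t.ev γ ∈ K) :
    ∀ t ∈ lpo_loops, t.ev γ ∈ K :=
  List.forall_mem_cons.2 ⟨lpo_mem0 hL hr hK,
    fun _ h => absurd h List.not_mem_nil⟩

def ivw : ℕ := (nat_lit 139560992)
def rw4 : List W := [.pow (.mul (.l 1) (.l 2)) 3, .pow (.mul (.l 1) (.l 3)) 2, .pow (.mul (.l 2) (.l 3)) 3, .pow (.l 4) 3, .mul (.mul (.mul (.inv (.l 4)) (.inv (.l 2))) (.l 4)) (.l 2), .mul (.mul (.mul (.inv (.l 4)) (.inv (.l 1))) (.l 4)) (.l 1), .pow (.mul (.mul (.l 3) (.l 1)) (.l 4)) 3]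
def lpw_F : Tr := .leaf (nat_lit 0x3c07c1742f05b8bb2f44ec798fa2f24e0578b92e24d8ba9340d61d4598b42605cc378722d84c8748f11542c0b792e0d01b8b412c0c61b0508ab24c5a42f0672ca4902d0651442902b8622be4704a09e1ac3742a85c0a816c4809a12c26426858124260658d30941482485129c4344388e11023022047086118be1370f61d83d0712725b4bc12d0ee1b45b0ac26a5a8ba12a0e61a4b91281622a03806625e58cb712315a28c760e22565803506015227c740de24e5745309c24a564b21191c635cb1116242554500951be3508f1530ba14c6e0d22365448d14f0b213cac10c2ae42c2b04b1aa3288a149126224a91081a23208814611e2188714529a4142604511620ca51021923082404220e504630c110a204821401863004108008210000000)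
def lpw_T : Tr := .leaf (nat_lit 0x3cefae78df6d74cf2c70beeb6caeaa689e69648e28607de75c6da6585d65544d24503ce34c2ca2481c61440c2040)
def lpw_P : Tr := .node (.leaf (nat_lit 0x64aeb10060564ac000036250993f5300202604c954155002005c5f000035caaad00605ab462e2d964fa55100406589d470000156404300204529a4d000044e3a3d00205484b000034a323500205488f4500604442c2f00605952a14112337933f004063c2629002043a892d0020138872b0000136852900205341e2100204321e7b172d0020030181b00605307f250060426120407170020224101500605221013000011a1d000031c0a0f00204180a020511002000e0209002050c020700001))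
  (.leaf (nat_lit 0x1ff001ff001ff001ff001ff001ff001ff001ff001ff001ff001ff001ff001ff001ff001ff001ff001ff001ff001ff001ff786e710060578cccb00604766cab5b6f0020076c3750040574b56700201707300003725a5f002046cad6300404686b000036a54570020568b2ba0060466a76100005))
def lpw_N_0 : Tr := .node (.node (.node (.node (.leaf (nat_lit 68224065))
  (.leaf (nat_lit 164)))
  (.leaf (nat_lit 33)))
  (.node (.node (.leaf (nat_lit 69701))
  (.leaf (nat_lit 133)))
  (.leaf (nat_lit 2050))))
  (.node (.node (.node (.leaf (nat_lit 102860898))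
  (.leaf (nat_lit 5124)))
  (.leaf (nat_lit 66)))
  (.node (.node (.leaf (nat_lit 4435762843683))
  (.leaf (nat_lit 0)))
  (.leaf (nat_lit 99))))
def lpw_N_1 : Tr := .node (.node (.node (.node (.leaf (nat_lit 99425))
  (.leaf (nat_lit 164)))
  (.leaf (nat_lit 1025)))
  (.node (.node (.leaf (nat_lit 36901))
  (.leaf (nat_lit 4101)))
  (.leaf (nat_lit 99))))
  (.node (.node (.node (.leaf (nat_lit 4228))
  (.leaf (nat_lit 133)))
  (.leaf (nat_lit 66)))
  (.node (.node (.leaf (nat_lit 33))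
  (.leaf (nat_lit 0)))
  (.leaf (nat_lit 3075))))
def lpw_N : Tr := .node lpw_N_0
  lpw_N_1
noncomputable def lpw : TC :=
  ⟨[.l 0, .l 1, .l 2, .l 3, .l 4, .l 5],
    (nat_lit 6), (nat_lit 8), (nat_lit 139560992), (nat_lit 1), (nat_lit 61), (nat_lit 0), (nat_lit 32), (nat_lit 2), (nat_lit 24),
    get (nat_lit 10) (nat_lit 0x1003010030080400c02010030080400c0201003008090100400c0601006), Tr.get lpw_N, get (nat_lit 20) (nat_lit 0x3ff003ff003ff003ff003ff003ff003ff003ff003ff003ff003ff003ff003ff003ff003ff003ff003ff00006000050000400003000020000100000),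
    Tr.get3 lpw_F (nat_lit 22) (nat_lit 5), Tr.get3 lpw_T (nat_lit 6) (nat_lit 7), Tr.get lpw_P⟩

theorem lpw_head : lpw.headOK rw4 ivw = true := by decide +kernel

theorem lpw_b0 : allFrom (nat_lit 0) (nat_lit 2) lpw.blockOK = true := by decide +kernel

theorem lpw_blocks : ∀ t < lpw.k, lpw.blockOK t = true :=
  (of_allFrom_append of_lt_zero lpw_b0)

theorem lpw_mem0 {G : Type*} [Group G] {γ : ℕ → G} (hL : Lab γ ivw) (hr : ∀ t ∈ rw4, t.ev γ = 1) {K : Subgroup G}
    (hK : ∀ t ∈ ([] : List W), t.ev γ ∈ K) :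
    W.ev γ (.mul (.mul (.mul (.inv (.pow (.mul (.mul (.l 2) (.l 1)) (.l 4)) 2)) (.inv (.mul (.mul (.mul (.l 3) (.l 1)) (.pow (.mul (.mul (.l 1) (.l 2)) (.l 4)) 2)) (.mul (.l 3) (.l 1))))) (.pow (.mul (.mul (.l 2) (.l 1)) (.l 4)) 2)) (.mul (.mul (.mul (.l 3) (.l 1)) (.pow (.mul (.mul (.l 1) (.l 2)) (.l 4)) 2)) (.mul (.l 3) (.l 1)))) ∈ K :=
  TC.mem (D := lpw) hL (List.forall_mem_cons.2 ⟨hL.zero_mem K, hK⟩) hr lpw_head lpw_blocks
    (n := (nat_lit 28)) (w := (nat_lit 0x8c82090432044408862284451844128825)) (st := (nat_lit 0x30d2190a0a29f59b6b9c4c6d0cfc9bcc1bfa9422a868a8d83817d08)) (by decide +kernel) (by decide +kernel)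

def lpw_loops : List W := [.mul (.mul (.mul (.inv (.pow (.mul (.mul (.l 2) (.l 1)) (.l 4)) 2)) (.inv (.mul (.mul (.mul (.l 3) (.l 1)) (.pow (.mul (.mul (.l 1) (.l 2)) (.l 4)) 2)) (.mul (.l 3) (.l 1))))) (.pow (.mul (.mul (.l 2) (.l 1)) (.l 4)) 2)) (.mul (.mul (.mul (.l 3) (.l 1)) (.pow (.mul (.mul (.l 1) (.l 2)) (.l 4)) 2)) (.mul (.l 3) (.l 1)))]

theorem lpw_mems {G : Type*} [Group G] {γ : ℕ → G} (hL : Lab γ ivw) (hr : ∀ t ∈ rw4, t.ev γ = 1) {K : Subgroup G}
    (hK : ∀ t ∈ ([] : List W), t.ev γ ∈ K) :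
    ∀ t ∈ lpw_loops, t.ev γ ∈ K :=
  List.forall_mem_cons.2 ⟨lpw_mem0 hL hr hK,
    fun _ h => absurd h List.not_mem_nil⟩

def snet_M_0 : Tr := .node (.node (.node (.node (.leaf (nat_lit 0))
  (.leaf (nat_lit 256)))
  (.node (.leaf (nat_lit 8))
  (.leaf (nat_lit 0))))
  (.node (.node (.leaf (nat_lit 0))
  (.leaf (nat_lit 1024)))
  (.node (.leaf (nat_lit 0))
  (.leaf (nat_lit 0)))))
  (.node (.node (.node (.leaf (nat_lit 256))
  (.leaf (nat_lit 512)))
  (.node (.leaf (nat_lit 0))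
  (.leaf (nat_lit 0))))
  (.node (.node (.leaf (nat_lit 0))
  (.leaf (nat_lit 0)))
  (.leaf (nat_lit 0))))
def snet_M_1 : Tr := .node (.node (.node (.node (.leaf (nat_lit 0))
  (.leaf (nat_lit 256)))
  (.node (.leaf (nat_lit 0))
  (.leaf (nat_lit 0))))
  (.node (.node (.leaf (nat_lit 0))
  (.leaf (nat_lit 0)))
  (.node (.leaf (nat_lit 0))
  (.leaf (nat_lit 0)))))
  (.node (.node (.node (.leaf (nat_lit 256))
  (.leaf (nat_lit 0)))
  (.node (.leaf (nat_lit 1))
  (.leaf (nat_lit 0))))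
  (.node (.node (.leaf (nat_lit 0))
  (.leaf (nat_lit 0)))
  (.leaf (nat_lit 0))))
def snet_M_2 : Tr := .node (.node (.node (.node (.leaf (nat_lit 0))
  (.leaf (nat_lit 1024)))
  (.node (.leaf (nat_lit 0))
  (.leaf (nat_lit 0))))
  (.node (.node (.leaf (nat_lit 0))
  (.leaf (nat_lit 0)))
  (.node (.leaf (nat_lit 0))
  (.leaf (nat_lit 0)))))
  (.node (.node (.node (.leaf (nat_lit 128))
  (.leaf (nat_lit 0)))
  (.node (.leaf (nat_lit 0))
  (.leaf (nat_lit 0))))
  (.node (.node (.leaf (nat_lit 0))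
  (.leaf (nat_lit 0)))
  (.leaf (nat_lit 0))))
def snet_M_3 : Tr := .node (.node (.node (.node (.leaf (nat_lit 0))
  (.leaf (nat_lit 0)))
  (.node (.leaf (nat_lit 2))
  (.leaf (nat_lit 0))))
  (.node (.node (.leaf (nat_lit 0))
  (.leaf (nat_lit 0)))
  (.node (.leaf (nat_lit 0))
  (.leaf (nat_lit 0)))))
  (.node (.node (.node (.leaf (nat_lit 0))
  (.leaf (nat_lit 0)))
  (.node (.leaf (nat_lit 0))
  (.leaf (nat_lit 0))))
  (.node (.node (.leaf (nat_lit 8))
  (.leaf (nat_lit 0)))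
  (.leaf (nat_lit 0))))
def snet_M_4 : Tr := .node (.node (.node (.node (.leaf (nat_lit 0))
  (.leaf (nat_lit 512)))
  (.node (.leaf (nat_lit 4))
  (.leaf (nat_lit 0))))
  (.node (.node (.leaf (nat_lit 16))
  (.leaf (nat_lit 0)))
  (.node (.leaf (nat_lit 0))
  (.leaf (nat_lit 0)))))
  (.node (.node (.node (.leaf (nat_lit 64))
  (.leaf (nat_lit 0)))
  (.node (.leaf (nat_lit 0))
  (.leaf (nat_lit 0))))
  (.node (.node (.leaf (nat_lit 0))
  (.leaf (nat_lit 0)))
  (.leaf (nat_lit 0))))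
def snet_M_5 : Tr := .node (.node (.node (.node (.leaf (nat_lit 0))
  (.leaf (nat_lit 0)))
  (.node (.leaf (nat_lit 0))
  (.leaf (nat_lit 0))))
  (.node (.node (.leaf (nat_lit 0))
  (.leaf (nat_lit 0)))
  (.node (.leaf (nat_lit 0))
  (.leaf (nat_lit 0)))))
  (.node (.node (.node (.leaf (nat_lit 32))
  (.leaf (nat_lit 0)))
  (.node (.leaf (nat_lit 0))
  (.leaf (nat_lit 0))))
  (.node (.node (.leaf (nat_lit 4))
  (.leaf (nat_lit 0)))
  (.leaf (nat_lit 0))))
def snet_M_6 : Tr := .node (.node (.node (.node (.leaf (nat_lit 0))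
  (.leaf (nat_lit 512)))
  (.node (.leaf (nat_lit 0))
  (.leaf (nat_lit 0))))
  (.node (.node (.leaf (nat_lit 0))
  (.leaf (nat_lit 0)))
  (.node (.leaf (nat_lit 64))
  (.leaf (nat_lit 0)))))
  (.node (.node (.node (.leaf (nat_lit 64))
  (.leaf (nat_lit 0)))
  (.node (.leaf (nat_lit 0))
  (.leaf (nat_lit 0))))
  (.node (.node (.leaf (nat_lit 0))
  (.leaf (nat_lit 0)))
  (.leaf (nat_lit 128))))
def snet_M_7 : Tr := .node (.node (.node (.node (.leaf (nat_lit 32))
  (.leaf (nat_lit 0)))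
  (.node (.leaf (nat_lit 0))
  (.leaf (nat_lit 0))))
  (.node (.node (.leaf (nat_lit 8))
  (.leaf (nat_lit 0)))
  (.leaf (nat_lit 0))))
  (.node (.node (.node (.leaf (nat_lit 0))
  (.leaf (nat_lit 0)))
  (.node (.leaf (nat_lit 0))
  (.leaf (nat_lit 0))))
  (.node (.node (.leaf (nat_lit 16))
  (.leaf (nat_lit 0)))
  (.leaf (nat_lit 0))))
def snet_M : Tr := .node (.node (.node snet_M_0
  snet_M_1)
  (.node snet_M_2
  snet_M_3))
  (.node (.node snet_M_4
  snet_M_5)
  (.node snet_M_6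
  snet_M_7))
noncomputable def snet : Net :=
  ⟨(nat_lit 17), (nat_lit 4), (nat_lit 7), get (nat_lit 24) (nat_lit 0x6000003000001000001000001000003000006), Tr.masks snet_M (nat_lit 12) (nat_lit 1) (nat_lit 7) (nat_lit 0x107b9ac5a928398a418820) (nat_lit 0)⟩

theorem snet_ok : snet.OK 12 := fun _ => of_allLt (by decide +kernel : allLt 17 (snet.ok 12) = true)
theorem snet_lab : snet.labOK 12 4 iv = true := by decide +kernel
theorem snet_rels0 : allFrom (nat_lit 0) (nat_lit 55) (fun j => snet.relOK 12 4 iv (r550.getD j (.l 0))) = true := by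
  decide +kernel
theorem snet_rels : ∀ t ∈ r550, snet.relOK 12 4 iv t = true := forall_mem_of_getD (d := .l 0) (n := 55) rfl
  (of_allFrom_append of_lt_zero snet_rels0)
def slow : List Low := [
  ⟨11, [wd [1], wd [2], wd [3], wd [4], wd [5], wd [6], wd [7], wd [8], wd [9], wd [10], wd [11]], 6, 12⟩,
  ⟨0, [wd [1], wd [2], wd [3], wd [4], wd [5], wd [6], wd [7], wd [8], wd [9], wd [10]], 6, 11⟩,
  ⟨10, [wd [1], wd [2], wd [3], wd [4], wd [5], wd [7], wd [8], wd [9], wd [10]], 5, 10⟩,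
  ⟨1, [wd [1], wd [2], wd [3], wd [4], wd [5], wd [7], wd [8], wd [9]], 5, 9⟩,
  ⟨9, [wd [1], wd [2], wd [3], wd [4], wd [7], wd [8], wd [9]], 4, 8⟩,
  ⟨2, [wd [1], wd [2], wd [3], wd [4], wd [7], wd [8]], 4, 7⟩,
  ⟨8, [wd [1], wd [2], wd [3], wd [7], wd [8]], 3, 6⟩,
  ⟨7, [wd [1], wd [2], wd [3], wd [7]], 2, 5⟩,
  ⟨3, [wd [1], wd [2], wd [3]], 3, 4⟩,
  ⟨5, [wd [1], wd [2]], 1, 3⟩,
  ⟨4, [wd [1, 2, 1]], 1, 2⟩]
theorem slow_ok : snet.lowOK 12 iv slow = true := by decide +kernel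

end Cfsg.Lib.M3
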