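import Cfsg.Agent.Lib.Mon.N0b
import Cfsg.Agent.Lib.Mathieu.Move

/-! # Octadic involutions inverting the triality element -/

namespace Cfsg.Lib.Griess

open Finset Matrix Subgroup Cfsg.Lib.Leech Cfsg.Lib.Mon

theorem eq_one_of_central {f : Aut} (h : ∀ g ∈ M1, Commute f g) : f = 1 := by
  have k (x) : f * qV x * f⁻¹ = qV x := (h _ (CZ_le_M1 (qV_mem x))).mul_inv_cancel
  obtain ⟨q, e⟩ := (rhoC_eq_one (g := ⟨f, mem_CZ.2 (k _)⟩)).1 (co1_ext fun x => by rw [← piM_conj, one_smul, k, piM_qV])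
  obtain rfl : qV q = f := e
  rcases mem_center_Q.1 (Subgroup.mem_center_iff.2 fun x => qV_injective (by
    rw [map_mul, map_mul, (h _ (CZ_le_M1 (qV_mem x))).eq]) : q ∈ center Q) with rfl | rfl
  · exact map_one _
  · have := tau_conj_zQ
    rw [(h _ tau_mem_M1).symm.mul_inv_cancel] at this
    simpa using congrArg Q.s (qV_injective this)

theorem xq_comm_bq {s : ZMod 2} {d : Cd} {δ : W} : Commute (xq s d) (bq δ) ↔ (d : W) ⬝ᵥ δ = 0 :=
  ⟨fun h => by simpa using pr_eq_of_comm h, fun h => qV_comm (by simpa using h)⟩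

theorem xq_sq {d : Cd} (h : wt d = 8 ∨ wt d = 16) (s : ZMod 2) : xq s d * xq s d = 1 := by
  rw [xq_mul_self, show qw d = 0 by rcases h with h | h <;> rw [qw, h] <;> rfl, zp_zero, map_one]

theorem xq_one_add (s : ZMod 2) (d : Cd) : xq (1 + s) d = zA * xq s d := xq_add 1 s d

theorem wt_four {i j k l : Pt} (h : [i, j, k, l].Nodup) : wt (e1 i + e1 j + (e1 k + e1 l)) = 4 := by
  simp only [List.nodup_cons, List.mem_cons, not_or, List.not_mem_nil] at h
  have := wt_add (e1 i + e1 j) (e1 k + e1 l)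
  simp only [add_mul, mul_add, e1_mul_e1, h, ne_eq, not_false_eq_true, wt_pair, add_zero, wt_zero] at this
  exact this

/-- an involution inverting `τ`, forming `3`-transpositions with the `b_i` and commuting with five of them -/
structure Wh (u : Aut) : Prop where
  sq : u * u = 1
  inv : u * tau * u = tau⁻¹
  tri : ∀ i, Commute u (bq (e1 i)) ∨ (u * bq (e1 i)) ^ 3 = 1
  five : ∃ i j k l m, [i, j, k, l, m].Nodup ∧ ∀ x ∈ [i, j, k, l, m], Commute u (bq (e1 x))
  ne : ∀ i, u ≠ bq (e1 i)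
  nc : ∃ i, ¬ Commute u (bq (e1 i))

namespace Wh

variable {u : Aut} (h : Wh u)
include h

theorem inv_eq : u⁻¹ = u := inv_eq_of_mul_eq_one_right h.sq
theorem uu (x : Aut) : u * (u * x) = x := by rw [← mul_assoc, h.sq, one_mul]
theorem semi : SemiconjBy u tau tau⁻¹ := by rw [SemiconjBy, ← h.inv, mul_assoc _ u, h.sq, mul_one]
theorem semi' : SemiconjBy u tau⁻¹ tau := by simpa using h.semi.inv_right
theorem conj_mul (x y : Aut) : u * (x * y) * u = u * x * u * (u * y * u) := by simp only [mul_assoc, h.uu]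
theorem conj_conj (x : Aut) : u * (u * x * u) * u = x := by simp only [mul_assoc, h.uu, h.sq, mul_one]
theorem conj_eq {x : Aut} (e : Commute u x) : u * x * u = x := by rw [e.eq, mul_assoc, h.sq, mul_one]
theorem comm_of {x : Aut} (e : u * x * u = x) : Commute u x := by
  rw [Commute, SemiconjBy]; conv_rhs => rw [← e, mul_assoc, h.sq, mul_one]
theorem comm_conj {x y : Aut} (e : Commute x (u * y * u)) : Commute (u * x * u) y := by
  simpa only [h.inv_eq, h.conj_conj] using e.conj u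

theorem braid {i : Pt} (e : ¬ Commute u (bq (e1 i))) : u * bq (e1 i) * u = bq (e1 i) * u * bq (e1 i) := by
  have := (h.tri i).resolve_left e
  rw [← mul_inv_eq_one, ← this]
  simp only [_root_.mul_inv_rev, h.inv_eq, bq_inv, pow_succ, pow_zero, one_mul, mul_assoc]

theorem conj_zw : u * (zA * wA) * u = tau * (u * zA * u) * tau⁻¹ := by
  rw [← tau_conj_w, wA, ← tau_conj_zQ, ← mul_assoc tau, ← mul_assoc tau, tau_mul_tau, mul_assoc _ tau⁻¹, tau_inv_mul,
    h.conj_mul, h.conj_mul, h.inv, h.semi', mul_assoc tau u, h.sq, mul_one]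

theorem conj_w : u * wA * u = tau⁻¹ * (u * zA * u) * tau := by
  rw [wA, ← tau_conj_zQ, h.conj_mul, h.conj_mul, h.inv, h.semi', mul_assoc tau u, h.sq, mul_one]

theorem not_comm_z : ¬ Commute u zA := fun e => by
  obtain ⟨i, hi⟩ := h.nc
  have h1 : u * bq (e1 i) ∈ NV := mem_NV.2 ⟨e.mul_left (mem_CZc.1 (bq_mem_CZ _)), by
    have k := bq_conj_wA (e1 i)
    have k' := h.conj_zw
    rw [e1_dot, Pi.one_apply, zp_one] at k
    rw [h.conj_eq e, tau_conj_zQ] at k'
    rw [← mul_inv_eq_iff_eq_mul, _root_.mul_inv_rev, bq_inv, h.inv_eq]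
    refine Eq.trans ?_ k'
    rw [← k]; simp only [mul_assoc]⟩
  obtain ⟨σ, c, k⟩ := exists_ind_NV h1
  have := (conj_bq_e1 h1 (h.semi'.mul_left (bq_e1_semi i)).symm k.dp i).1
  rw [mul_assoc u, bq_mul_self, mul_one, _root_.mul_inv_rev, bq_inv, h.inv_eq, ← mul_assoc, h.braid hi] at this
  refine h.ne ((σ : Equiv.Perm Pt) i) ?_
  rw [← mul_left_inj (bq (e1 i)), ← mul_right_inj (bq (e1 i)), ← mul_assoc, this, bq_comm _ (e1 i), ← mul_assoc,
    bq_mul_self, one_mul]

theorem cube {x : Aut} (h2 : x * x = 1) (h3 : (x * tau) ^ 3 = 1) : (u * x * u * tau) ^ 3 = 1 := by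
  have : (x * tau⁻¹) ^ 3 = x * ((x * tau) ^ 3)⁻¹ * x := by
    simp only [pow_succ, pow_zero, one_mul, _root_.mul_inv_rev, inv_eq_of_mul_eq_one_right h2, mul_assoc, h2, mul_one]
  rw [mul_assoc _ u, h.semi, ← mul_assoc, mul_assoc u, ← h.inv_eq, h.inv_eq, show u * (x * tau⁻¹) * u = u * _ * u⁻¹ by
    rw [h.inv_eq], conj_pow, this, h3, inv_one, mul_one, h2, mul_one, mul_inv_cancel]

theorem sq_conj {x : Aut} (h2 : x * x = 1) : u * x * u * (u * x * u) = 1 := by rw [← h.conj_mul, h2, mul_one, h.sq]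

theorem exists_conj_z : ∃ s d, u * zA * u = xq s d := by
  obtain ⟨i, j, k, l, m, n, c⟩ := h.five
  simp only [List.mem_cons, forall_eq_or_imp, List.not_mem_nil, false_imp_iff, implies_true, and_true] at c
  have key {l} (n : [i, j, k, l].Nodup) (cl : Commute u (bq (e1 l))) {x} (hx : x = zA ∨ x = wA) :
      u * zA * u * x = x * (u * zA * u) ∨ u * zA * u * x = bq (e1 i + e1 j + (e1 k + e1 l)) * (x * (u * zA * u)) := by
    have := (inQ_bq_z (wt_four n)).conj u
    rw [h.inv_eq, h.conj_eq (x := bq _) (by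
      simp only [bq_add]; exact (c.1.mul_right c.2.1).mul_right (c.2.2.1.mul_right cl))] at this
    rcases hx with rfl | rfl
    exacts [this.comm (inQ_bq_z (wt_four n)), this.comm (inQ_bq_w (wt_four n))]
  have key' {x} (hx : x = zA ∨ x = wA) : u * zA * u * x = x * (u * zA * u) := by
    rcases key (n.sublist (by simp)) c.2.2.2.1 hx with e | e
    · exact e
    refine (key (n.sublist (by simp)) c.2.2.2.2 hx).resolve_right fun e' => ?_
    have hlm : l ≠ m := by simp only [List.nodup_cons, List.mem_cons, not_or] at n; exact n.2.2.2.1.1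
    rw [e, mul_left_inj, bq_add, bq_add _ (e1 k + _), mul_right_inj, bq_add, bq_add, mul_right_inj, ← mul_inv_eq_one,
      bq_inv, ← bq_add, bq_eq_one] at e'
    have := wt_pair hlm
    rw [eq_zero_of_wt_lt e' (by omega), wt_zero] at this
    cases this
  exact eq_xq (mem_NV.2 ⟨key' (.inl rfl), key' (.inr rfl)⟩) (h.sq_conj zA_mul_self)
    (h.cube zA_mul_self (by simpa only [xq_zero, zp_one] using xq_tau_cube 1 0))
    (h.comm_conj (by rw [h.conj_eq c.1]; exact (mem_CZc.1 (bq_mem_CZ _)).symm))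

theorem mem_M1 : u ∈ M1 := by
  obtain ⟨i, j, k, l, m, n, c⟩ := h.five
  simp only [List.mem_cons, forall_eq_or_imp] at c
  obtain ⟨g, h1, h2⟩ := exists_conj_wA (wt_four (n.sublist (by simp) : [i, j, k, l].Nodup))
  have h3 : Commute u (bq (e1 i + e1 j + (e1 k + e1 l))) := by
    simp only [bq_add]; exact (c.1.mul_right c.2.1).mul_right (c.2.2.1.mul_right c.2.2.2.1)
  have h4 := mul_mem (CZ_le_M1 h1) tau_mem_M1
  rw [← mul_mem_cancel_left (inv_mem h4), ← mul_mem_cancel_right h4]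
  rw [← h2, wA, ← tau_conj_zQ] at h3
  exact CZ_le_M1 (mem_CZc.2 (by simpa [mul_assoc] using (h3.conj (g * tau)⁻¹).eq))

variable {t : ZMod 2} {A : Cd} (e : u * zA * u = xq t A)
include e

theorem comm_iff {i : Pt} : Commute u (bq (e1 i)) ↔ (A : W) i = 0 := by
  rw [← dot_e1 A, ← xq_comm_bq (s := t), ← e]
  refine ⟨fun k => h.comm_conj (by rw [h.conj_eq k]; exact (mem_CZc.1 (bq_mem_CZ _)).symm), fun k => ?_⟩
  by_contra k'
  have := h.comm_conj k.symm
  rw [h.braid k'] at this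
  have z : Commute (bq (e1 i)) zA := mem_CZc.1 (bq_mem_CZ _)
  refine h.not_comm_z ?_
  simpa only [mul_assoc, bq_mul_self, mul_one, ← mul_assoc (bq _) (bq _), one_mul] using (z.mul_left this).mul_left z

theorem comm_bq {δ : W} (k : δ * A = 0) : Commute u (bq δ) := by
  rw [← univ_sum_single δ]
  refine sum_induction _ (fun v => Commute u (bq v)) (fun _ _ a b => bq_add _ _ ▸ a.mul_right b)
    (bq_zero ▸ Commute.one_right u) fun i _ => ?_
  rcases z2_cases (δ i) with k' | k' <;> rw [k']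
  · rw [Pi.single_zero, bq_zero]; exact Commute.one_right u
  · exact (h.comm_iff e).2 (by simpa [k'] using congrFun k i)

theorem wt_eq : wt A = 16 := by
  rcases wt_code A with k | k | k | k | k
  · obtain ⟨i, hi⟩ := h.nc
    exact absurd ((h.comm_iff e).2 (congrFun (wt_eq_zero k) i)) hi
  · have g : Good A 0 := ⟨k, zero_mem_sub _, by simp⟩
    refine absurd ⟨⟨u, u, h.sq, h.sq⟩, ?_⟩ (not_isConj_of_nm xd card_range_qV (x := xq t A) ⟨_, rfl⟩ (v := lT g)
      ((piM_qV _).trans ((piQ_congr (by simp [eT]) (by simp [eT])).trans (mk_lT g).symm)) (nm_lT g))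
    rw [SemiconjBy, ← e, mul_assoc _ u, h.sq, mul_one]
  · have := h.sq_conj zA_mul_self
    rw [e, xq_mul_self, qw, k, ← map_one qV] at this
    exact absurd (congrArg Q.s (qV_injective this)) (by decide)
  · exact k
  · obtain ⟨i, _, _, _, _, -, c⟩ := h.five
    have := wt_add_one A
    rw [k] at this
    have := congrFun (wt_eq_zero this) i
    simp [(h.comm_iff e).1 (c i (by simp))] at this

theorem conj_zw' : u * (zA * wA) * u = yq t A := by rw [h.conj_zw, e, yq]

/-- `u` fixes `x_P` or `z x_P` for an octad `P` disjoint from the octad of `u`. -/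
theorem fix_or {P : Cd} (hP : wt P = 8) (k : (A : W) * P = P) (s : ZMod 2) :
    Commute u (xq s P) ∨ Commute u (zA * xq s P) := by
  have key (s) : ∃ r d, u * xq s P * u = xq r d := by
    obtain ⟨i, _, _, _, _, -, c⟩ := h.five
    have c := c i (by simp)
    have s2 : xq s P * xq s P = 1 := xq_sq (.inl hP) s
    refine eq_xq (mem_NV.2 ⟨h.comm_conj (by rw [e]; exact xq_comm (by rw [mul_comm, k, hw_code]) _ _), h.comm_conj ?_⟩)
      (h.sq_conj s2) (h.cube s2 (xq_tau_cube s P)) (i := i) (h.comm_conj ?_)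
    · have := yq_mul_xq s t P A
      rw [k, hw_code, zero_smul, ← bq, bq_code P.2, one_mul] at this
      simpa only [h.conj_w, e, yq, inv_inv, mul_assoc, inv_mul_cancel_left, inv_mul_cancel, mul_one] using
        Commute.conj this tau⁻¹
    · rw [h.conj_eq c, xq_comm_bq, dot_e1, ← k, Pi.mul_apply, (h.comm_iff e).1 c, zero_mul]
  obtain ⟨j, hj⟩ := h.nc
  have hA : (A : W) j = 1 := (z2_cases _).resolve_left fun k => hj ((h.comm_iff e).2 k)
  obtain ⟨r, d, k1⟩ := key ((P : W) ⬝ᵥ e1 j + s)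
  have b1 : bq (e1 j) * u * bq (e1 j) * u * bq (e1 j) = u := by
    rw [← h.braid hj, mul_assoc _ u u, h.sq, mul_one, mul_assoc, bq_mul_self, mul_one]
  have k2 : u * xq s P * u = bq (e1 j) * (u * (bq (e1 j) * xq r d * bq (e1 j)) * u) * bq (e1 j) := by
    rw [← k1, ← bq_conj_xq]; conv_lhs => rw [← b1]
    simp only [mul_assoc]
  rw [bq_conj_xq, xq_add, h.conj_mul, ← k1, h.conj_conj, ← bq_conj_xq] at k2
  simp only [mul_assoc, bq_mul_self, mul_one] at k2
  rcases zp_cases ((d : W) ⬝ᵥ e1 j) with k3 | k3 <;> rw [k3] at k2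
  · rw [one_mul, h.uu, ← mul_assoc (bq _), bq_mul_self, one_mul, ← mul_assoc] at k2
    exact .inl (h.comm_of k2)
  · have k4 := bq_conj_xq (e1 j) t A
    rw [dot_e1, hA, xq_one_add, ← e] at k4
    simp only [← mul_assoc] at k2 k4
    refine .inr (h.comm_of ?_)
    rw [h.conj_mul, k2, k4, mul_assoc zA, mul_assoc zA, ← mul_assoc, ← mul_assoc, e, mem_CZc.1 (NV_le (xq_mem t A)),
      mul_assoc zA, ← e, h.sq_conj zA_mul_self, mul_one]

theorem sign {u' x : Aut} (h' : Wh u') (c : Commute u' u) (h1 : Commute u x) (h2 : Commute u' (zA * x)) {i : Pt}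
    (hi : (A : W) i = 1) (hi' : Commute u' (bq (e1 i))) : False := by
  have k1 := (c.mul_right h2).mul_right c
  rw [h.conj_mul, h.conj_eq h1, e] at k1
  have k2 := h2.mul_right k1.inv_right
  rw [_root_.mul_inv_rev, mul_assoc, mul_inv_cancel_left] at k2
  have k3 := ((hi'.mul_right k2.inv_right).mul_right hi').mul_right k2
  have k4 := bq_conj_xq (e1 i) t A
  rw [dot_e1, hi, xq_one_add] at k4
  rw [_root_.mul_inv_rev, inv_inv, inv_eq_of_mul_eq_one_right zA_mul_self, ← mul_assoc (bq _), mul_assoc _ zA,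
    ← mem_CZc.1 (bq_mem_CZ _), ← mul_assoc _ (bq _), k4, mul_assoc, mul_assoc, ← mul_assoc zA zA, zA_mul_self, one_mul,
    mul_inv_cancel, mul_one] at k3
  exact h'.not_comm_z k3

omit e in
theorem cube_comm {x v v1 v2 : Aut} (h2 : x * x = 1) (a : u * (x * v * x) * u = v1) (b : u * (x * v1 * x) * u = v2)
    (c : u * (x * v2 * x) * u = v) : Commute ((u * x) ^ 3) v := by
  rw [Commute, SemiconjBy, ← mul_inv_eq_iff_eq_mul]
  conv_rhs => rw [← c, ← b, ← a]
  simp only [pow_succ, pow_zero, one_mul, _root_.mul_inv_rev, h.inv_eq, inv_eq_of_mul_eq_one_right h2, mul_assoc]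

omit e in
theorem cube_comm' {x v β : Aut} (h2 : x * x = 1) (hv : v * v = 1) (hβ : β * β = 1) (a : Commute x v) (b : Commute x β)
    (c : Commute u β) (d : Commute v β) (e : Commute (u * v * u) v) (f : x * (u * v * u) * x = v * β * (u * v * u)) :
    Commute ((u * x) ^ 3) v := by
  have g : Commute (u * v * u) β := (c.mul_left d).mul_left c
  refine h.cube_comm h2 (v1 := u * v * u) (v2 := u * v * u * (β * v)) (by rw [a.eq, mul_assoc v, h2, mul_one])
    (by rw [f, h.conj_mul, h.conj_mul, h.conj_eq c, h.conj_conj, mul_assoc _ β]) ?_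
  rw [← mul_assoc x, mul_assoc _ (β * v), ← (b.mul_right a).eq, ← mul_assoc _ x, f, mul_assoc (v * β),
    (g.mul_right e).eq, ← mul_assoc (v * β), mul_assoc v β, ← mul_assoc β β, hβ, one_mul, hv, one_mul, h.conj_conj]

theorem mul_mem_code {q : Q} (h1 : qV q ∈ NV) (h2 : Commute (qV q) u) : (q.d : W) * A ∈ golayCode := by
  have k := (h2.mul_right (Commute.mul_right (mem_NV.1 h1).1 (mem_NV.1 h1).2)).mul_right h2
  obtain ⟨s, d, γ, h3, h4⟩ := exists_xq_bq h1
  obtain rfl : q.d = d := by simpa using congrArg Q.d (qV_injective (h4.trans (map_mul _ _ _).symm))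
  have k1 : yq t A * bq γ = qV (qe 0 (((A : W) ⬝ᵥ γ) • Om) 0) * bq γ * yq t A := by
    rw [← mul_inv_eq_iff_eq_mul, ← tau_conj_zp, ← tau_conj_bq h3, yq, conj_inv, _root_.conj_mul, _root_.conj_mul,
      _root_.conj_mul, xq, bq, qV_conj]
    simp
  have k2 := k.symm.eq
  rw [h.conj_zw' e, h4, ← mul_assoc, yq_mul_xq, mul_assoc, mul_assoc, k1, ← mul_assoc, ← mul_assoc, mul_left_inj,
    ← mul_assoc, mul_left_inj, xq, ← map_mul, ← map_mul] at k2
  simpa [cs_eq_zero] using congrArg Q.c (qV_injective k2)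

variable {O : Cd} (hO : wt O = 8) (hA : wt ((O : W) * A) = 6) (s : ZMod 2)
include hO hA

omit h e in
theorem xq_conj : xq s O * xq t A * xq s O = zA * xq t A := by
  nth_rw 2 [← inv_eq_of_mul_eq_one_right (xq_sq (.inl hO) s)]
  rw [xq, xq, qV_conj]
  simp only [qe_d, qe_c, pr_cs]
  rw [add_comm, th_comm, hw, hA]; rfl

theorem cube_mem : (u * xq s O) ^ 3 ∈ NV := by
  have x2 := xq_sq (.inl hO) s
  obtain ⟨x3, x4⟩ := mem_NV.1 (xq_mem s O)
  have k1 : Commute ((u * xq s O) ^ 3) zA := h.cube_comm' x2 zA_mul_self (one_mul 1) x3 (.one_right _) (.one_right _)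
    (.one_right _) (by rw [e]; exact (mem_NV.1 (xq_mem t A)).1) (by rw [e, xq_conj hO hA, mul_one])
  have zw : Commute (xq s O) (zA * wA) := Commute.mul_right x3 x4
  have ev := mul_dot_one O A
  have β1 : Commute (xq s O) (bq ((O : W) * A)) := xq_comm_bq.2 (by rw [dot_mul, w_mul_self, dot_code])
  have β0 : bq ((O : W) * A) = bq ((O : W) * A + O) := by rw [bq_add, bq_code O.2, mul_one]
  have k2 : Commute ((u * xq s O) ^ 3) (zA * wA) := h.cube_comm' x2
    (by rw [mul_assoc, ← mul_assoc wA, (mem_NV.1 wA_mem).1, mul_assoc, wA_mul_self, mul_one, zA_mul_self])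
    (bq_mul_self _) zw β1 (by rw [β0]; exact h.comm_bq e (by rw [add_mul, mul_assoc, w_mul_self, w_add_self]))
    (Commute.mul_right (mem_NV.1 (bq_mem ev)).1 (mem_NV.1 (bq_mem ev)).2).symm
    (by rw [h.conj_zw' e]; exact Commute.mul_right (mem_NV.1 (yq_mem t A)).1 (mem_NV.1 (yq_mem t A)).2) (by
      have := yq_mul_xq t s A O
      rw [hw, hA, show qe _ _ _ = zQ * aOm * qe 0 0 ((O : W) * A) by rw [zQ_mul_aOm, qe_mul]; simp; rfl, map_mul,
        map_mul, ← bq] at this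
      rw [h.conj_zw' e, mul_assoc, this, ← mul_assoc, (zw.mul_right β1).eq, mul_assoc _ (xq s O), ← mul_assoc (xq s O), x2,
        one_mul])
  exact mem_NV.2 ⟨k1, by simpa only [← mul_assoc, zA_mul_self, one_mul] using (k1.mul_right k2).eq⟩

theorem cube_comm_bq {i : Pt} (hi : (A : W) i = 0) : Commute ((u * xq s O) ^ 3) (bq (e1 i)) := by
  have c := (h.comm_iff e).2 hi
  rcases z2_cases ((O : W) i) with k | k
  · exact (c.mul_left (xq_comm_bq.2 ((dot_e1 _ _).trans k))).pow_left 3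
  have x2 := xq_sq (.inl hO) s
  have x3 := (mem_NV.1 (xq_mem s O)).1
  have z1 : Commute (xq t A) zA := (mem_NV.1 (xq_mem t A)).1
  have b : xq s O * bq (e1 i) * xq s O = zA * bq (e1 i) := by
    have := bq_conj_xq (e1 i) s O
    rw [dot_e1, k, xq_one_add] at this
    rw [← mul_left_inj (bq (e1 i)), mul_assoc, mul_assoc, ← mul_assoc (bq _), this, ← mul_assoc, x3, mul_assoc, x2,
      mul_assoc, bq_mul_self]
  have m (a b) : xq s O * (a * b) * xq s O = xq s O * a * xq s O * (xq s O * b * xq s O) := by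
    simp only [mul_assoc, ← mul_assoc (xq s O) (xq s O), x2, one_mul]
  refine h.cube_comm x2 (v1 := xq t A * bq (e1 i)) (v2 := zA * bq (e1 i)) ?_ ?_ ?_
  · rw [b, h.conj_mul, e, h.conj_eq c]
  · rw [m, b, xq_conj hO hA, ← z1.eq, mul_assoc (xq t A), ← mul_assoc zA, zA_mul_self, one_mul, h.conj_mul, ← e,
      h.conj_conj, h.conj_eq c]
  · rw [m, b, x3, mul_assoc zA, x2, mul_one, ← mul_assoc zA, zA_mul_self, one_mul, h.conj_eq c]

end Wh

theorem mem_norm_tau {g : Aut} (h : SemiconjBy g tau tau ∨ SemiconjBy g tau tau⁻¹) :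
    g ∈ normalizer (zpowers tau : Set Aut) := by
  refine mem_normalizer_fintype ?_
  rintro _ ⟨n, rfl⟩
  rw [← conj_zpow]
  rcases h with h | h <;> rw [h.eq, mul_inv_cancel_right]
  exacts [zpow_mem (mem_zpowers _) _, zpow_mem (inv_mem (mem_zpowers _)) _]

theorem qV_mem_of {K : Subgroup Aut} (h : normalizer (zpowers tau : Set Aut) ≤ K) {s : ZMod 2} {O : Cd} (hO : wt O = 8)
    (hx : xq s O ∈ K) (q : Q) : qV q ∈ K := by
  have hb (δ) : bq δ ∈ K := w_induction (P := fun δ => bq δ ∈ K) (bq_zero ▸ one_mem _)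
    (fun i => h (mem_norm_tau (.inr (bq_e1_semi i)))) (fun _ _ a b => bq_add _ _ ▸ mul_mem a b) δ
  have hz (t) : qV (zp t) ∈ K := by
    obtain ⟨i, hi⟩ : ∃ i, (O : W) i = 1 := by
      by_contra! k
      rw [show (O : W) = 0 from funext fun i => (z2_cases _).resolve_right (k i), wt_zero] at hO; cases hO
    have := mul_mem (mul_mem (hb (e1 i)) hx) (hb (e1 i))
    rw [bq_conj_xq, dot_e1, hi, xq_one_add, mul_mem_cancel_right hx] at this
    rcases zp_cases t with k | k <;> rw [k]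
    exacts [one_mem _, this]
  have hs {s d} (k : xq s d ∈ K) (t) : xq t d ∈ K := by
    rw [show t = t + s + s by rw [add_assoc, z2_add_self, add_zero], xq_add]; exact mul_mem (hz _) k
  have F : Mathieu.InvFam {c | ∃ d : Cd, support₂ d = c ∧ xq 0 d ∈ K} :=
    ⟨⟨0, by simp [support₂], xq_zero 0 ▸ hz 0⟩, by
      rintro _ ⟨d, rfl, a⟩ _ ⟨e, rfl, b⟩
      have := mul_mem a b
      rw [xq_mul, mul_mem_cancel_right (hb _)] at this
      exact ⟨d + e, Golay.support₂_add _ _, hs this 0⟩, by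
      rintro σ _ ⟨d, rfl, a⟩
      obtain ⟨t, e⟩ := xp_xq σ 0 d
      have k := h (mem_norm_tau (.inl (tau_comm_xp σ).symm))
      exact ⟨sC σ d, support_sW _ _, hs (e ▸ mul_mem (mul_mem k a) (inv_mem k)) 0⟩⟩
  obtain ⟨s, d, δ, rfl⟩ := qe_surj q
  obtain ⟨d', e, k⟩ := F.of_octad (Golay.mem_octads.2 ⟨support_mem_GC O.2, hO⟩) ⟨O, rfl, hs hx 0⟩ (support_mem_GC d.2)
  rw [Subtype.ext (Golay.support₂_injective e)] at k
  rw [qV_qe]; exact mul_mem (hs k s) (hb _)

theorem Wh.not_fix {u : Aut} (hu : Wh u) {t : ZMod 2} {A : Cd} (e : u * zA * u = xq t A) {P : Cd} (hP : wt P = 8)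
    (hA : wt ((P : W) * A) = 4) : ∃ hg : u * xq 0 P * u ∈ CZ, rhoC ⟨_, hg⟩ • om ≠ om := by
  have h0 : hw ((P : W) * A) = 0 := by rw [hw, hA]; rfl
  have hg : u * xq 0 P * u ∈ CZ := mem_CZc.2 (hu.comm_conj (by rw [e]; exact xq_comm h0 _ _))
  refine ⟨hg, fun k => ?_⟩
  have x2 := xq_sq (.inl hP) 0
  have k1 : xq 0 P * yq t A * xq 0 P = bq ((P : W) * A) * yq t A := by
    rw [mul_assoc, yq_mul_xq, h0, zero_smul, ← bq, ← mul_assoc, (xq_comm_bq.2 (by
      rw [dot_mul, w_mul_self, dot_code])).eq, mul_assoc, ← mul_assoc (xq 0 P), x2, one_mul]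
  have k2 : u * xq 0 P * u * (zA * wA) * (u * xq 0 P * u)⁻¹ = u * bq ((P : W) * A) * u * (zA * wA) := by
    rw [inv_eq_of_mul_eq_one_right (hu.sq_conj x2), ← hu.conj_conj (zA * wA), ← hu.conj_mul, ← hu.conj_mul,
      ← hu.conj_mul, hu.conj_zw' e, k1]
  rw [← _root_.conj_mul, mem_CZ.1 hg] at k2
  rcases (smul_om (n := ⟨_, hg⟩)).1 k with k3 | k3
  · rw [show _ * wA * _ = wA from mem_N0.1 k3, eq_comm, mul_eq_right, mul_assoc, mul_eq_one_comm, mul_assoc, hu.sq,
      mul_one, bq_eq_one] at k2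
    rw [eq_zero_of_wt_lt k2 (by omega), wt_zero] at hA
    cases hA
  · rw [show _ * wA * _ = _ from k3, map_mul, mul_left_inj, ← hu.conj_conj (qV zQ), mul_left_inj, mul_right_inj,
      e] at k2
    have := hu.wt_eq e
    rw [show A = 0 from congrArg Q.d (qV_injective k2)] at this
    simp at this

theorem CZ_le_of {K : Subgroup Aut} (hQ : ∀ q, qV q ∈ K) (h : ∀ a : Spor.Co1, ∃ g : CZ, (g : Aut) ∈ K ∧ rhoC g = a) :
    CZ ≤ K := fun c hc => by
  obtain ⟨g, hg, e⟩ := h (rhoC ⟨c, hc⟩)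
  obtain ⟨q, k⟩ := (rhoC_eq_one (g := g⁻¹ * ⟨c, hc⟩)).1 (by rw [map_mul, map_inv, e, inv_mul_cancel])
  have := hQ q
  rw [k] at this
  exact (mul_mem_cancel_left (inv_mem hg)).1 this

theorem M1_le {K : Subgroup Aut} (h : normalizer (zpowers tau : Set Aut) ≤ K) {s : ZMod 2} {O : Cd} (hO : wt O = 8)
    (hx : xq s O ∈ K) {u : Aut} (hu : Wh u) {t : ZMod 2} {A : Cd} (e : u * zA * u = xq t A) {P : Cd} (hP : wt P = 8)
    (hA : wt ((P : W) * A) = 4) : M1 ≤ K := by
  have hQ := qV_mem_of h hO hx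
  have ht := h (mem_norm_tau (.inl rfl))
  obtain ⟨H, hH⟩ : ∃ H : Subgroup Co0, ∀ a, a ∈ H ↔ ∃ g : CZ, (g : Aut) ∈ K ∧ rhoC g = a :=
    ⟨((K.subgroupOf CZ).map rhoC).comap (QuotientGroup.mk' _), fun _ => Iff.rfl⟩
  have H' : H = ⊤ := by
    refine isCoatom_monoGrp.2 _ (lt_of_le_of_ne (fun a ha => ?_) fun k => ?_)
    · obtain ⟨σ, hσ, _, ⟨c, hc, rfl⟩, rfl⟩ := mem_monoGrp_iff.1 ha
      obtain ⟨g, -, hg⟩ := exists_NV ⟨σ, hσ⟩ ⟨c, hc⟩
      exact (hH _).2 ⟨⟨g, hg.1⟩, mem_of_ind hQ ht (h (mem_norm_tau (.inl (tau_comm_xp _).symm))) hg, hg.2⟩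
    obtain ⟨hg, k1⟩ := hu.not_fix e hP hA
    obtain ⟨a, ha⟩ := QuotientGroup.mk_surjective (rhoC ⟨_, hg⟩)
    have hu' := h (mem_norm_tau (.inr hu.semi))
    have k2 : a ∈ monoGrp := by
      rw [k, hH]; exact ⟨_, mul_mem (mul_mem hu' (hQ _)) hu', ha.symm⟩
    rw [← ha, mk_smul, om_eq, Leech.smul_mk, Ne, L2_eq_iff, ← mem_monoGrp_code] at k1
    exact k1 k2
  refine (closure_le _).2 (Set.union_subset (CZ_le_of hQ fun a => ?_) (Set.singleton_subset_iff.2 ht))
  obtain ⟨a, rfl⟩ := QuotientGroup.mk_surjective a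
  exact (hH a).1 (H'.ge (mem_top a))

end Cfsg.Lib.Griess
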